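import Mathlib

/-!
# GT (helper74): the Tate functor `T(M) = M^P / N_P M` for a group `P = ⟨y⟩` of prime order `p`
acting on a vector space of characteristic `p`.

Everything is phrased with submodules of an ambient space:
`fixOn Y U = U ⊓ ker (Y - 1)` and `nmOn p Y U = (Y - 1)^(p-1) U` (which is `N_P U`).
-/

namespace Cfsg.Agent.Lib.Helper74.GT

open Polynomial in
theorem geom_sum_X_eq_sub_one_pow {F : Type*} [Field F] (p : ℕ) [hp : Fact p.Prime] [CharP F p] :
    (∑ i ∈ Finset.range p, (X : F[X]) ^ i) = (X - 1) ^ (p - 1) := by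
  have h1 : (X - 1 : F[X]) * ∑ i ∈ Finset.range p, (X : F[X]) ^ i = X ^ p - 1 := mul_geom_sum _ _
  have h2 : (X - 1 : F[X]) ^ p = X ^ p - 1 := by
    rw [sub_pow_char]; simp
  have h3 : (X - 1 : F[X]) * (X - 1) ^ (p - 1) = X ^ p - 1 := by
    rw [← h2, ← pow_succ', Nat.sub_add_cancel hp.out.one_le]
  have hne : (X - 1 : F[X]) ≠ 0 := by
    have := X_sub_C_ne_zero (1 : F)
    simpa using this
  exact mul_left_cancel₀ hne (h1.trans h3.symm)

open Polynomial in
theorem sub_one_pow_char_X {F : Type*} [Field F] (p : ℕ) [hp : Fact p.Prime] [CharP F p] :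
    (X - 1 : F[X]) ^ p = X ^ p - 1 := by
  rw [sub_pow_char]; simp

/-- In an `F`-algebra of characteristic `p`: `1 + Y + ... + Y^(p-1) = (Y-1)^(p-1)`. -/
theorem geom_sum_eq_sub_one_pow {F : Type*} [Field F] (p : ℕ) [Fact p.Prime] [CharP F p]
    {A : Type*} [Ring A] [Algebra F A] (Y : A) :
    (∑ i ∈ Finset.range p, Y ^ i) = (Y - 1) ^ (p - 1) := by
  have := congrArg (Polynomial.aeval Y) (geom_sum_X_eq_sub_one_pow (F := F) p)
  simpa using this

theorem sub_one_pow_char {F : Type*} [Field F] (p : ℕ) [Fact p.Prime] [CharP F p]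
    {A : Type*} [Ring A] [Algebra F A] (Y : A) :
    (Y - 1) ^ p = Y ^ p - 1 := by
  have := congrArg (Polynomial.aeval Y) (sub_one_pow_char_X (F := F) p)
  simpa using this

variable {F : Type*} [Field F] {V : Type*} [AddCommGroup V] [Module F V]

/-- `U ∩ V^P` where `P = ⟨Y⟩`. -/
def fixOn (Y : Module.End F V) (U : Submodule F V) : Submodule F V :=
  U ⊓ LinearMap.ker (Y - 1)

/-- `N_P U = (Y-1)^(p-1) U`. -/
def nmOn (p : ℕ) (Y : Module.End F V) (U : Submodule F V) : Submodule F V :=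
  U.map ((Y - 1) ^ (p - 1))

theorem mem_fixOn {Y : Module.End F V} {U : Submodule F V} {v : V} :
    v ∈ fixOn Y U ↔ v ∈ U ∧ Y v = v := by
  simp [fixOn, sub_eq_zero]

theorem mem_nmOn {p : ℕ} {Y : Module.End F V} {U : Submodule F V} {v : V} :
    v ∈ nmOn p Y U ↔ ∃ u ∈ U, ((Y - 1) ^ (p - 1)) u = v := by
  simp [nmOn]

theorem fixOn_mono {Y : Module.End F V} {U U' : Submodule F V} (h : U ≤ U') :
    fixOn Y U ≤ fixOn Y U' := inf_le_inf_right _ h

theorem nmOn_mono {p : ℕ} {Y : Module.End F V} {U U' : Submodule F V} (h : U ≤ U') :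
    nmOn p Y U ≤ nmOn p Y U' := Submodule.map_mono h

/-- `N_P U ⊆ U ∩ V^P` when `U` is `Y`-stable and `Y^p = 1`. -/
theorem nmOn_le_fixOn {p : ℕ} [Fact p.Prime] [CharP F p] {Y : Module.End F V} (hY : Y ^ p = 1)
    {U : Submodule F V} (hU : ∀ v ∈ U, Y v ∈ U) : nmOn p Y U ≤ fixOn Y U := by
  intro v hv
  obtain ⟨u, hu, rfl⟩ := mem_nmOn.1 hv
  have hx : ∀ v ∈ U, (Y - 1) v ∈ U := fun v hv => by
    simpa using U.sub_mem (hU v hv) hv
  have hxk : ∀ k : ℕ, ∀ v ∈ U, ((Y - 1) ^ k) v ∈ U := by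
    intro k
    induction k with
    | zero => intro v hv; simpa using hv
    | succ k ih => intro v hv; rw [pow_succ']; exact hx _ (ih v hv)
  refine Submodule.mem_inf.2 ⟨hxk _ u hu, ?_⟩
  rw [LinearMap.mem_ker, ← Module.End.mul_apply, ← pow_succ',
    Nat.sub_add_cancel (Fact.out : p.Prime).one_le, sub_one_pow_char (F := F) p Y, hY, sub_self]
  rfl

end Cfsg.Agent.Lib.Helper74.GT
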