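import Cfsg.Agent.Lib.Helper74.GT.Split

/-!
# GT (helper74): decomposition of `P ⋊ H`-modules: either `T = 0` or a summand with simple `T`.
-/

namespace Cfsg.Agent.Lib.Helper74.GT

variable {F : Type*} [Field F] {V : Type*} [AddCommGroup V] [Module F V]
variable {Γ : Type*} [Group Γ]


/-- restriction of a representation to an invariant submodule -/
def restrictRep (σ : Representation F Γ V) (U : Submodule F V)
    (hU : ∀ g, ∀ v ∈ U, σ g v ∈ U) : Representation F Γ U where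
  toFun g := (σ g).restrict (hU g)
  map_one' := by ext; simp
  map_mul' a b := by ext; simp

@[simp] theorem restrictRep_apply (σ : Representation F Γ V) (U : Submodule F V)
    (hU : ∀ g, ∀ v ∈ U, σ g v ∈ U) (g : Γ) (u : U) :
    ((restrictRep σ U hU g u : U) : V) = σ g (u : V) := rfl

/-- transfer of `fixOn` along an injective equivariant map -/
theorem fixOn_map {V' : Type*} [AddCommGroup V'] [Module F V'] (ι : V' →ₗ[F] V)
    (hι : Function.Injective ι) (Y' : Module.End F V') (Y : Module.End F V)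
    (hc : ∀ v, ι (Y' v) = Y (ι v)) (X : Submodule F V') :
    fixOn Y (X.map ι) = (fixOn Y' X).map ι := by
  ext v
  constructor
  · intro hv
    obtain ⟨⟨a, ha, rfl⟩, hfix⟩ := mem_fixOn.1 hv
    refine ⟨a, mem_fixOn.2 ⟨ha, hι ?_⟩, rfl⟩
    rw [hc, hfix]
  · rintro ⟨a, ha, rfl⟩
    obtain ⟨haX, hfix⟩ := mem_fixOn.1 ha
    exact mem_fixOn.2 ⟨⟨a, haX, rfl⟩, by rw [← hc, hfix]⟩

theorem nmOn_map {V' : Type*} [AddCommGroup V'] [Module F V'] (p : ℕ) (ι : V' →ₗ[F] V)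
    (Y' : Module.End F V') (Y : Module.End F V)
    (hc : ∀ v, ι (Y' v) = Y (ι v)) (X : Submodule F V') :
    nmOn p Y (X.map ι) = (nmOn p Y' X).map ι := by
  have hx : ∀ v, ι ((Y' - 1) v) = (Y - 1) (ι v) := fun v => by simp [hc]
  have hxn : ∀ n : ℕ, ∀ v, ι (((Y' - 1) ^ n) v) = ((Y - 1) ^ n) (ι v) := by
    intro n
    induction n with
    | zero => intro v; simp
    | succ n ih => intro v; rw [pow_succ', pow_succ', Module.End.mul_apply, Module.End.mul_apply,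
        hx, ih]
  ext v
  simp only [nmOn, Submodule.mem_map]
  constructor
  · rintro ⟨_, ⟨a, ha, rfl⟩, rfl⟩
    exact ⟨_, ⟨a, ha, rfl⟩, hxn _ a⟩
  · rintro ⟨_, ⟨a, ha, rfl⟩, rfl⟩
    exact ⟨ι a, ⟨a, ha, rfl⟩, (hxn _ a).symm⟩

theorem split_step_sub [FiniteDimensional F V] {p : ℕ} [Fact p.Prime] [CharP F p]
    (σ : Representation F Γ V) (y : Γ) (hy : y ^ p = 1) (H : Subgroup Γ) [Finite H]
    (hH : (Nat.card H : F) ≠ 0) (hnorm : ∀ h ∈ H, ∃ j : ℕ, h * y * h⁻¹ = y ^ j)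
    (U : Submodule F V) (hUne : U ≠ ⊥) (hU : ∀ g, ∀ v ∈ U, σ g v ∈ U) :
    ∃ U' U'' : Submodule F V, U' ≠ ⊥ ∧ Disjoint U' U'' ∧ U' ⊔ U'' = U ∧
      (∀ v ∈ U', σ y v ∈ U') ∧ (∀ h ∈ H, ∀ v ∈ U', σ h v ∈ U') ∧
      (∀ v ∈ U'', σ y v ∈ U'') ∧ (∀ h ∈ H, ∀ v ∈ U'', σ h v ∈ U'') ∧
      (fixOn (σ y) U' ≤ nmOn p (σ y) U' ∨
        (nmOn p (σ y) U' = ⊥ ∧ fixOn (σ y) U' ≠ ⊥ ∧
          ∀ X : Submodule F V, (∀ h ∈ H, ∀ v ∈ X, σ h v ∈ X) → X ≤ fixOn (σ y) U' →
            X = ⊥ ∨ X = fixOn (σ y) U')) := by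
  have : Nontrivial U := Submodule.nontrivial_iff_ne_bot.2 hUne
  set τ := restrictRep σ U hU with hτ
  obtain ⟨A, B, hAne, hAB, hAy, hAH, hBy, hBH, hfin⟩ := split_step τ y hy H hH hnorm
  have hinj : Function.Injective U.subtype := U.injective_subtype
  have hc : ∀ g (v : U), U.subtype (τ g v) = σ g (U.subtype v) := fun g v => rfl
  have hfixA := fixOn_map U.subtype hinj (τ y) (σ y) (hc y) A
  have hnmA := nmOn_map p U.subtype (τ y) (σ y) (hc y) A
  refine ⟨A.map U.subtype, B.map U.subtype, ?_, ?_, ?_, ?_, ?_, ?_, ?_, ?_⟩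
  · intro h; exact hAne (Submodule.map_injective_of_injective hinj (by rw [h, Submodule.map_bot]))
  · rw [disjoint_iff, ← Submodule.map_inf _ hinj, hAB.inf_eq_bot, Submodule.map_bot]
  · rw [← Submodule.map_sup, hAB.sup_eq_top, Submodule.map_subtype_top]
  · rintro _ ⟨a, ha, rfl⟩; exact ⟨τ y a, hAy a ha, rfl⟩
  · rintro h hh _ ⟨a, ha, rfl⟩; exact ⟨τ h a, hAH h hh a ha, rfl⟩
  · rintro _ ⟨a, ha, rfl⟩; exact ⟨τ y a, hBy a ha, rfl⟩
  · rintro h hh _ ⟨a, ha, rfl⟩; exact ⟨τ h a, hBH h hh a ha, rfl⟩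
  · rcases hfin with h1 | ⟨h1, h2, h3⟩
    · left
      rw [hfixA, hnmA]; exact Submodule.map_mono h1
    · right
      refine ⟨by rw [hnmA, h1, Submodule.map_bot], ?_, ?_⟩
      · rw [hfixA]; intro h
        exact h2 (Submodule.map_injective_of_injective hinj (by rw [h, Submodule.map_bot]))
      · intro X hX hXle
        rw [hfixA] at hXle ⊢
        have hXU : X ≤ LinearMap.range U.subtype := hXle.trans (LinearMap.map_le_range)
        have hXeq : (X.comap U.subtype).map U.subtype = X :=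
          Submodule.map_comap_eq_of_le hXU
        rcases h3 (X.comap U.subtype) (fun h hh v hv => hX h hh _ hv) (by
            intro v hv
            obtain ⟨a, ha, hav⟩ := hXle hv
            have : a = v := hinj hav
            rwa [← this]) with h4 | h4
        · left; rw [← hXeq, h4, Submodule.map_bot]
        · right; rw [← hXeq, h4]


theorem isCompl_shuffle {A B U Q : Submodule F V} (hd : Disjoint A B) (hs : A ⊔ B = U)
    (hUQ : IsCompl U Q) : IsCompl A (B ⊔ Q) := by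
  constructor
  · rw [Submodule.disjoint_def]
    intro v hvA hvBQ
    obtain ⟨b, hb, q, hq, rfl⟩ := Submodule.mem_sup.1 hvBQ
    have hAU : A ≤ U := hs ▸ le_sup_left
    have hBU : B ≤ U := hs ▸ le_sup_right
    have hqU : q ∈ U := by
      have : q = (b + q) - b := by abel
      rw [this]; exact U.sub_mem (hAU hvA) (hBU hb)
    have hq0 : q = 0 := (Submodule.disjoint_def.1 hUQ.disjoint) q hqU hq
    subst hq0
    rw [add_zero] at hvA ⊢
    exact (Submodule.disjoint_def.1 hd) b hvA hb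
  · rw [codisjoint_iff, ← sup_assoc, hs, hUQ.sup_eq_top]

/-- invariance under `y` and `H`. -/
def YHInv (σ : Representation F Γ V) (y : Γ) (H : Subgroup Γ) (U : Submodule F V) : Prop :=
  (∀ v ∈ U, σ y v ∈ U) ∧ ∀ h ∈ H, ∀ v ∈ U, σ h v ∈ U

theorem YHInv.sup {σ : Representation F Γ V} {y : Γ} {H : Subgroup Γ} {A B : Submodule F V}
    (hA : YHInv σ y H A) (hB : YHInv σ y H B) : YHInv σ y H (A ⊔ B) := by
  constructor
  · intro v hv
    obtain ⟨a, ha, b, hb, rfl⟩ := Submodule.mem_sup.1 hv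
    rw [map_add]; exact Submodule.add_mem_sup (hA.1 a ha) (hB.1 b hb)
  · intro h hh v hv
    obtain ⟨a, ha, b, hb, rfl⟩ := Submodule.mem_sup.1 hv
    rw [map_add]; exact Submodule.add_mem_sup (hA.2 h hh a ha) (hB.2 h hh b hb)

theorem YHInv.all {σ : Representation F Γ V} {y : Γ} {H : Subgroup Γ} {U : Submodule F V}
    (hU : YHInv σ y H U) (hgen : ∀ g : Γ, ∃ i : ℕ, ∃ h ∈ H, g = y ^ i * h) :
    ∀ g, ∀ v ∈ U, σ g v ∈ U := by
  intro g v hv
  obtain ⟨i, h, hh, rfl⟩ := hgen g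
  rw [map_mul, map_pow, Module.End.mul_apply]
  exact pow_mem_of_mem hU.1 i _ (hU.2 h hh v hv)


/-- The conclusion of the decomposition: a summand `U₁` with `N_P U₁ = 0` and `U₁^P` a minimal
nonzero `H`-invariant subspace (so `T(U₁)` is simple). -/
def HasSimpleSummand (p : ℕ) (σ : Representation F Γ V) (y : Γ) (H : Subgroup Γ) : Prop :=
  ∃ U₁ U₂ : Submodule F V, IsCompl U₁ U₂ ∧ YHInv σ y H U₁ ∧ YHInv σ y H U₂ ∧
    nmOn p (σ y) U₁ = ⊥ ∧ fixOn (σ y) U₁ ≠ ⊥ ∧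
    ∀ X : Submodule F V, (∀ h ∈ H, ∀ v ∈ X, σ h v ∈ X) → X ≤ fixOn (σ y) U₁ →
      X = ⊥ ∨ X = fixOn (σ y) U₁

theorem dec_aux [FiniteDimensional F V] {p : ℕ} [Fact p.Prime] [CharP F p]
    (σ : Representation F Γ V) (y : Γ) (hy : y ^ p = 1) (H : Subgroup Γ) [Finite H]
    (hH : (Nat.card H : F) ≠ 0) (hnorm : ∀ h ∈ H, ∃ j : ℕ, h * y * h⁻¹ = y ^ j)
    (hgen : ∀ g : Γ, ∃ i : ℕ, ∃ h ∈ H, g = y ^ i * h) :
    ∀ n : ℕ, ∀ U Q : Submodule F V, Module.finrank F U = n → IsCompl U Q →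
      YHInv σ y H U → YHInv σ y H Q → fixOn (σ y) Q ≤ nmOn p (σ y) Q →
      (fixOn (σ y) ⊤ ≤ nmOn p (σ y) ⊤) ∨ HasSimpleSummand p σ y H := by
  intro n
  induction n using Nat.strong_induction_on with
  | _ n ih =>
    intro U Q hn hUQ hU hQ hTQ
    by_cases hUne : U = ⊥
    · left
      have : Q = ⊤ := by
        have := hUQ.sup_eq_top; rwa [hUne, bot_sup_eq] at this
      rw [← this]; exact hTQ
    · obtain ⟨U', U'', hU'ne, hdisj, hsup, hU'y, hU'H, hU''y, hU''H, hfin⟩ :=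
        split_step_sub σ y hy H hH hnorm U hUne (hU.all hgen)
      have hU' : YHInv σ y H U' := ⟨hU'y, hU'H⟩
      have hU'' : YHInv σ y H U'' := ⟨hU''y, hU''H⟩
      rcases hfin with hT0 | ⟨h1, h2, h3⟩
      · -- recurse
        have hsup' : U'' ⊔ U' = U := by rw [sup_comm]; exact hsup
        have hcompl : IsCompl U'' (U' ⊔ Q) := isCompl_shuffle hdisj.symm hsup' hUQ
        have hlt : Module.finrank F U'' < n := by
          have h1 := Submodule.finrank_sup_add_finrank_inf_eq U' U''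
          rw [hsup, hdisj.eq_bot, finrank_bot, add_zero, hn] at h1
          have h2 : 0 < Module.finrank F U' := by
            rw [Module.finrank_pos_iff]
            exact Submodule.nontrivial_iff_ne_bot.2 hU'ne
          omega
        have hdUQ : Disjoint U' Q := by
          have hle : U' ≤ U := hsup ▸ le_sup_left
          exact hUQ.disjoint.mono_left hle
        have hT : fixOn (σ y) (U' ⊔ Q) ≤ nmOn p (σ y) (U' ⊔ Q) := by
          rw [fixOn_sup_of_disjoint hdUQ hU'.1 hQ.1, nmOn_sup]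
          exact sup_le_sup hT0 hTQ
        exact ih _ hlt U'' (U' ⊔ Q) rfl hcompl hU'' (hU'.sup hQ) hT
      · right
        exact ⟨U', U'' ⊔ Q, isCompl_shuffle hdisj hsup hUQ, hU', hU''.sup hQ, h1, h2, h3⟩

/-- **Decomposition**: for a module of `Γ = ⟨y⟩ H`, either `T = 0` or there is a direct summand
with simple `T`. -/
theorem dec [FiniteDimensional F V] {p : ℕ} [Fact p.Prime] [CharP F p]
    (σ : Representation F Γ V) (y : Γ) (hy : y ^ p = 1) (H : Subgroup Γ) [Finite H]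
    (hH : (Nat.card H : F) ≠ 0) (hnorm : ∀ h ∈ H, ∃ j : ℕ, h * y * h⁻¹ = y ^ j)
    (hgen : ∀ g : Γ, ∃ i : ℕ, ∃ h ∈ H, g = y ^ i * h) :
    (fixOn (σ y) ⊤ ≤ nmOn p (σ y) ⊤) ∨ HasSimpleSummand p σ y H := by
  refine dec_aux σ y hy H hH hnorm hgen _ ⊤ ⊥ rfl isCompl_top_bot ?_ ?_ ?_
  · exact ⟨fun _ _ => Submodule.mem_top, fun _ _ _ _ => Submodule.mem_top⟩
  · refine ⟨fun v hv => ?_, fun h _ v hv => ?_⟩
    · rw [Submodule.mem_bot] at hv ⊢; rw [hv, map_zero]
    · rw [Submodule.mem_bot] at hv ⊢; rw [hv, map_zero]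
  · intro v hv
    have : v = 0 := by simpa [fixOn] using hv.1
    rw [this]; exact Submodule.zero_mem _

end Cfsg.Agent.Lib.Helper74.GT
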