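import Cfsg.Agent.Lib.Helper74.GT.Rel

/-!
# GT (helper74): the induced module `Ind_N^G W` and `W ↪ T(Ind_N^G W)`.
-/

namespace Cfsg.Agent.Lib.Helper74.GT

variable {F : Type*} [Field F] {G : Type*} [Group G]
variable {W : Type*} [AddCommGroup W] [Module F W]

/-- `Ind_N^G W` as the space of `N`-covariant functions `G → W`. -/
def indSub (N : Subgroup G) (σ : Representation F N W) : Submodule F (G → W) where
  carrier := {f | ∀ (n : N) (g : G), f (n * g) = σ n (f g)}
  add_mem' := by
    intro f f' hf hf' n g
    simp only [Pi.add_apply, map_add, hf n g, hf' n g]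
  zero_mem' := by intro n g; simp
  smul_mem' := by
    intro c f hf n g
    simp only [Pi.smul_apply, map_smul, hf n g]

/-- right translation on functions `G → W` -/
def transRep (F : Type*) [Field F] (G : Type*) [Group G] (W : Type*) [AddCommGroup W]
    [Module F W] : Representation F G (G → W) where
  toFun g :=
    { toFun := fun f x => f (x * g)
      map_add' := fun _ _ => rfl
      map_smul' := fun _ _ => rfl }
  map_one' := by ext f x; simp
  map_mul' a b := by ext f x; simp [mul_assoc]

@[simp] theorem transRep_apply (g : G) (f : G → W) (x : G) :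
    transRep F G W g f x = f (x * g) := rfl

theorem indSub_inv (N : Subgroup G) (σ : Representation F N W) :
    ∀ g, ∀ f ∈ indSub N σ, transRep F G W g f ∈ indSub N σ := by
  intro g f hf n x
  simp only [transRep_apply]
  rw [mul_assoc]; exact hf n (x * g)

/-- the induced representation -/
def indRep (N : Subgroup G) (σ : Representation F N W) : Representation F G (indSub N σ) :=
  restrictRep (transRep F G W) (indSub N σ) (indSub_inv N σ)

open Classical in
/-- the canonical copy of `W` in `Ind W` -/
noncomputable def indEmb (N : Subgroup G) (σ : Representation F N W) : W →ₗ[F] indSub N σ where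
  toFun w := ⟨fun x => if h : x ∈ N then σ ⟨x, h⟩ w else 0, by
    intro n g
    by_cases hg : g ∈ N
    · have hng : (n : G) * g ∈ N := N.mul_mem n.2 hg
      simp only [dif_pos hg, dif_pos hng]
      rw [← Module.End.mul_apply, ← map_mul]; rfl
    · have hng : (n : G) * g ∉ N := fun h => hg (by
        have := N.mul_mem (N.inv_mem n.2) h
        simpa using this)
      simp only [dif_neg hg, dif_neg hng, map_zero]⟩
  map_add' w w' := by
    apply Subtype.ext; funext x
    by_cases hx : x ∈ N <;> simp [hx]
  map_smul' c w := by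
    apply Subtype.ext; funext x
    by_cases hx : x ∈ N <;> simp [hx]

theorem indEmb_apply (N : Subgroup G) (σ : Representation F N W) (w : W) (x : G) (hx : x ∈ N) :
    (indEmb N σ w : G → W) x = σ ⟨x, hx⟩ w := by
  simp [indEmb, hx]

theorem indEmb_apply_not (N : Subgroup G) (σ : Representation F N W) (w : W) (x : G)
    (hx : x ∉ N) : (indEmb N σ w : G → W) x = 0 := by
  simp [indEmb, hx]

theorem indRep_apply (N : Subgroup G) (σ : Representation F N W) (g : G) (f : indSub N σ)
    (x : G) : (indRep N σ g f : G → W) x = (f : G → W) (x * g) := rfl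

/-- `N`-equivariance of the canonical embedding. -/
theorem indEmb_equivariant (N : Subgroup G) (σ : Representation F N W) (n : N) (w : W) :
    indEmb N σ (σ n w) = indRep N σ n (indEmb N σ w) := by
  apply Subtype.ext; funext x
  rw [indRep_apply]
  by_cases hx : x ∈ N
  · have hxn : x * n ∈ N := N.mul_mem hx n.2
    rw [indEmb_apply N σ _ x hx, indEmb_apply N σ _ _ hxn, ← Module.End.mul_apply, ← map_mul]
    rfl
  · have hxn : x * n ∉ N := fun h => hx (by
      have := N.mul_mem h (N.inv_mem n.2)
      simpa using this)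
    rw [indEmb_apply_not N σ _ x hx, indEmb_apply_not N σ _ _ hxn]

theorem mem_indSub (N : Subgroup G) (σ : Representation F N W) (f : indSub N σ) (n : N) (g : G) :
    (f : G → W) (n * g) = σ n ((f : G → W) g) := f.2 n g

/-- **C2**: `W` occurs in `T(Ind_N^G W)`. -/
theorem rel_ind {p : ℕ} [Fact p.Prime] [CharP F p] (D : PData G p F)
    (σ : Representation F D.N W) (hy : σ ⟨D.y, D.hyN⟩ = 1) [Nontrivial W] :
    Rel D σ (indRep D.N σ) := by
  obtain ⟨w₀, hw₀⟩ := exists_ne (0 : W)
  refine ⟨indEmb D.N σ, ?_, ?_, w₀, ?_⟩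
  · intro w
    refine mem_fixOn.2 ⟨Submodule.mem_top, ?_⟩
    have := indEmb_equivariant D.N σ ⟨D.y, D.hyN⟩ w
    rw [hy] at this
    exact this.symm
  · intro h _ w
    rw [indEmb_equivariant, sub_self]
    exact Submodule.zero_mem _
  · intro hmem
    obtain ⟨f, _, hf⟩ := mem_nmOn.1 hmem
    rw [← geom_sum_eq_sub_one_pow (F := F) p (indRep D.N σ D.y)] at hf
    have h1 : (((∑ i ∈ Finset.range p, indRep D.N σ D.y ^ i) f : indSub D.N σ) : G → W) 1 =
        (indEmb D.N σ w₀ : G → W) 1 := by rw [hf]
    rw [indEmb_apply D.N σ w₀ 1 D.N.one_mem] at h1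
    have h2 : (⟨1, D.N.one_mem⟩ : D.N) = 1 := rfl
    rw [h2, map_one] at h1
    have h3 : ∀ i : ℕ, ((((indRep D.N σ D.y) ^ i) f : indSub D.N σ) : G → W) 1 = (f : G → W) 1 := by
      intro i
      rw [← map_pow, indRep_apply, one_mul]
      have := mem_indSub D.N σ f (⟨D.y, D.hyN⟩ ^ i) 1
      simp only [Subgroup.coe_pow, mul_one] at this
      rw [this, map_pow, hy, one_pow]; rfl
    rw [LinearMap.sum_apply] at h1
    have h4 : (((∑ i ∈ Finset.range p, ((indRep D.N σ D.y) ^ i) f : indSub D.N σ)) : G → W) 1 =
        ∑ i ∈ Finset.range p, ((((indRep D.N σ D.y) ^ i) f : indSub D.N σ) : G → W) 1 := by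
      rw [Submodule.coe_sum, Finset.sum_apply]
    rw [h4, Finset.sum_congr rfl (fun i _ => h3 i), Finset.sum_const, Finset.card_range,
      ← Nat.cast_smul_eq_nsmul F, CharP.cast_eq_zero, zero_smul] at h1
    exact hw₀ h1.symm

end Cfsg.Agent.Lib.Helper74.GT
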