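import Cfsg.Agent.Lib.Helper74.GT.Transfer

/-!
# GT (helper74): the relation `Rel W S` (`W` occurs in `T(S)`) and the descent to a simple
composition factor.
-/

namespace Cfsg.Agent.Lib.Helper74.GT

universe u

variable {F : Type*} [Field F] {G : Type*} [Group G]
variable {W : Type*} [AddCommGroup W] [Module F W]

/-- `Rel`: a nonzero `H`-map `W → T(M) = M^P/N_P M`. -/
def Rel {p : ℕ} (D : PData G p F) (σ : Representation F D.N W)
    {M : Type*} [AddCommGroup M] [Module F M] (ρ : Representation F G M) : Prop :=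
  ∃ j : W →ₗ[F] M, (∀ w, j w ∈ fixOn (ρ D.y) ⊤) ∧
    (∀ h : D.N, (h : G) ∈ D.H → ∀ w, j (σ h w) - ρ h (j w) ∈ nmOn p (ρ D.y) ⊤) ∧
    ∃ w, j w ∉ nmOn p (ρ D.y) ⊤

theorem Rel.not_tzero {p : ℕ} {D : PData G p F} {σ : Representation F D.N W}
    {M : Type*} [AddCommGroup M] [Module F M] {ρ : Representation F G M} (h : Rel D σ ρ) :
    ¬ TZero p (ρ D.y) := by
  obtain ⟨j, h1, _, w, hw⟩ := h
  exact fun h0 => hw (h0 (h1 w))

/-- a linear map which is the identity on `E` and kills `D'`, when `D' ⊓ E = ⊥`. -/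
theorem exists_proj_killing {M : Type*} [AddCommGroup M] [Module F M] (D' E : Submodule F M)
    (hDE : Disjoint D' E) :
    ∃ π : M →ₗ[F] M, (∀ e ∈ E, π e = e) ∧ (∀ d ∈ D', π d = 0) ∧ ∀ v, π v ∈ E := by
  have hinj : Function.Injective (D'.mkQ ∘ₗ E.subtype) := by
    rw [← LinearMap.ker_eq_bot, LinearMap.ker_eq_bot']
    intro e he
    have : (e : M) ∈ D' := by
      simpa [Submodule.Quotient.mk_eq_zero] using he
    exact Subtype.ext ((Submodule.disjoint_def.1 hDE) _ this e.2)
  obtain ⟨r, hr⟩ := LinearMap.exists_leftInverse_of_injective (D'.mkQ ∘ₗ E.subtype)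
    (LinearMap.ker_eq_bot.2 hinj)
  refine ⟨E.subtype ∘ₗ r ∘ₗ D'.mkQ, ?_, ?_, ?_⟩
  · intro e he
    have := congrArg (fun f => f ⟨e, he⟩) hr
    simp only [LinearMap.comp_apply, LinearMap.id_apply] at this
    simp only [LinearMap.comp_apply]
    rw [show D'.mkQ e = D'.mkQ (E.subtype ⟨e, he⟩) from rfl, this]; rfl
  · intro d hd
    simp only [LinearMap.comp_apply]
    rw [show D'.mkQ d = 0 from (Submodule.Quotient.mk_eq_zero D').2 hd, map_zero, map_zero]
  · intro v; simp

theorem mem_iff_subtype_mem_map {M : Type*} [AddCommGroup M] [Module F M] (S₀ : Submodule F M)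
    (X : Submodule F S₀) (z : S₀) : z ∈ X ↔ (z : M) ∈ X.map S₀.subtype := by
  constructor
  · intro hz; exact ⟨z, hz, rfl⟩
  · rintro ⟨a, ha, haz⟩
    have : a = z := Subtype.ext haz
    rwa [← this]

theorem exists_simple_rel [IsAlgClosed F] [Finite G] {p : ℕ} [Fact p.Prime] [CharP F p]
    (D : PData G p F) (σ : Representation F D.N W) :
    ∀ n : ℕ, ∀ (M : Type u) [AddCommGroup M] [Module F M] [FiniteDimensional F M]
      (ρ : Representation F G M), Module.finrank F M = n → Rel D σ ρ →
      ∃ (S : Type u) (_ : AddCommGroup S) (_ : Module F S) (_ : FiniteDimensional F S)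
        (ρ' : Representation F G S), IsSimpleRep ρ' ∧ Rel D σ ρ' := by
  intro n
  induction n using Nat.strong_induction_on with
  | _ n ih =>
    intro M _ _ _ ρ hn hrel
    by_cases hs : IsSimpleRep ρ
    · exact ⟨M, inferInstance, inferInstance, inferInstance, ρ, hs, hrel⟩
    · obtain ⟨j, hj1, hj2, w₀, hw₀⟩ := hrel
      have hYp : (ρ D.y) ^ p = 1 := by rw [← map_pow, D.hy, map_one]
      have hnt : Nontrivial M := by
        refine ⟨⟨j w₀, 0, fun h => hw₀ ?_⟩⟩
        rw [h]; exact Submodule.zero_mem _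
      have hex : ∃ U : Submodule F M, (∀ g, ∀ v ∈ U, ρ g v ∈ U) ∧ U ≠ ⊥ ∧ U ≠ ⊤ := by
        by_contra hcon
        push Not at hcon
        exact hs ⟨hnt, fun U hU => by
          by_cases h : U = ⊥
          · exact Or.inl h
          · exact Or.inr (hcon U hU h)⟩
      obtain ⟨U, hUinv, hUne, hUtop⟩ := hex
      obtain ⟨S₀, hS₀ne, hS₀, hS₀U, hS₀min⟩ :=
        exists_minimal_invariant (fun X : Submodule F M => ∀ g, ∀ v ∈ X, ρ g v ∈ X) U hUne hUinv
      have hmin' : ∀ X : Submodule F M, (∀ g, ∀ v ∈ X, ρ g v ∈ X) → X ≤ S₀ → X = ⊥ ∨ X = S₀ :=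
        hS₀min
      set A := fixOn (ρ D.y) S₀ with hA
      set Bs := nmOn p (ρ D.y) S₀ with hBs
      set Dm := nmOn p (ρ D.y) (⊤ : Submodule F M) with hDm
      have hBsDm : Bs ≤ Dm := nmOn_mono le_top
      have hBsA : Bs ≤ A := nmOn_le_fixOn hYp (hS₀ D.y)
      have hDmfix : Dm ≤ fixOn (ρ D.y) ⊤ := nmOn_le_fixOn hYp (fun _ _ => Submodule.mem_top)
      by_cases hcase : ∃ w, j w ∉ Dm ⊔ A
      · -- quotient
        obtain ⟨w₁, hw₁⟩ := hcase
        have hlt : Module.finrank F (M ⧸ S₀) < n := by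
          have h1 := Submodule.finrank_quotient_add_finrank S₀
          have h2 : 0 < Module.finrank F S₀ := by
            rw [Module.finrank_pos_iff]; exact Submodule.nontrivial_iff_ne_bot.2 hS₀ne
          omega
        have hnmQ : nmOn p (quotRep ρ S₀ hS₀ D.y) ⊤ = Dm.map S₀.mkQ :=
          nmOn_top_map_of_surjective p S₀.mkQ (Submodule.mkQ_surjective S₀) (ρ D.y)
            (quotRep ρ S₀ hS₀ D.y) (fun _ => rfl)
        refine ih _ hlt (M ⧸ S₀) (quotRep ρ S₀ hS₀) rfl ⟨S₀.mkQ ∘ₗ j, ?_, ?_, w₁, ?_⟩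
        · intro w
          refine mem_fixOn.2 ⟨Submodule.mem_top, ?_⟩
          show quotRep ρ S₀ hS₀ D.y (Submodule.Quotient.mk (j w)) = Submodule.Quotient.mk (j w)
          rw [quotRep_mk, (mem_fixOn.1 (hj1 w)).2]
        · intro h hh w
          rw [hnmQ]
          refine ⟨j (σ h w) - ρ h (j w), hj2 h hh w, ?_⟩
          simp only [LinearMap.comp_apply, map_sub]
          rfl
        · intro hmem
          rw [hnmQ] at hmem
          obtain ⟨d, hd, hdw⟩ := hmem
          apply hw₁
          have h1 : j w₁ - d ∈ S₀ := by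
            have : (Submodule.Quotient.mk (j w₁ - d) : M ⧸ S₀) = 0 := by
              rw [Submodule.Quotient.mk_sub]; exact sub_eq_zero.2 hdw.symm
            exact (Submodule.Quotient.mk_eq_zero S₀).1 this
          have h2 : j w₁ - d ∈ A := by
            refine mem_fixOn.2 ⟨h1, ?_⟩
            rw [map_sub, (mem_fixOn.1 (hj1 w₁)).2, (mem_fixOn.1 (hDmfix hd)).2]
          have : j w₁ = d + (j w₁ - d) := by abel
          rw [this]
          exact Submodule.add_mem_sup hd h2
      · push Not at hcase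
        have hρS := isSimpleRep_restrict ρ S₀ hS₀ne hS₀ hmin'
        rcases tzero_or_tsimple D hρS with h0 | hT
        · exfalso
          have hAB : A ≤ Bs := (tzero_restrict_iff p ρ S₀ hS₀ D.y).1 h0
          exact hw₀ ((sup_le le_rfl (hAB.trans hBsDm)) (hcase w₀))
        · -- invariance
          have hAH : ∀ h ∈ D.H, ∀ v ∈ A, ρ h v ∈ A := by
            intro h hh
            obtain ⟨i, hi⟩ := D.hnorm h⁻¹ (D.H.inv_mem hh)
            rw [inv_inv] at hi
            exact fixOn_inv ρ hi (hS₀ h)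
          have hDmH : ∀ h ∈ D.H, ∀ v ∈ Dm, ρ h v ∈ Dm := by
            intro h hh
            obtain ⟨i, hi⟩ := D.hnorm h hh
            exact nmOn_inv p ρ hi (fun _ _ => Submodule.mem_top) (fun _ _ => Submodule.mem_top)
          have hXinv : ∀ h ∈ D.H, ∀ v ∈ A ⊓ Dm, ρ h v ∈ A ⊓ Dm :=
            fun h hh v hv => ⟨hAH h hh v hv.1, hDmH h hh v hv.2⟩
          have hADm : A ⊓ Dm = Bs := by
            rcases tsimple_restrict p ρ S₀ hS₀ D.y D.H hT (A ⊓ Dm) hXinv (le_inf hBsA hBsDm)
              inf_le_left with h | h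
            · exact h
            · exfalso
              have : A ≤ Dm := inf_eq_left.1 h
              exact hw₀ ((sup_le le_rfl this) (hcase w₀))
          obtain ⟨C, hC⟩ := Submodule.exists_isCompl Bs
          set E := A ⊓ C with hE
          have hEBs : E ⊔ Bs = A := by
            rw [hE, sup_comm, inf_comm A C, ← sup_inf_assoc_of_le C hBsA, hC.sup_eq_top, top_inf_eq]
          have hDE : Disjoint Dm E := by
            rw [disjoint_iff, hE, ← inf_assoc, inf_comm Dm A, hADm, hC.inf_eq_bot]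
          obtain ⟨π, hπ1, hπ2, hπ3⟩ := exists_proj_killing Dm E hDE
          have hkey : ∀ w, j w - π (j w) ∈ Dm := by
            intro w
            obtain ⟨d, hd, a, ha, hda⟩ := Submodule.mem_sup.1 (hcase w)
            rw [← hEBs] at ha
            obtain ⟨e, he, b, hb, rfl⟩ := Submodule.mem_sup.1 ha
            rw [← hda, map_add, map_add, hπ2 d hd, hπ1 e he, hπ2 b (hBsDm hb)]
            have : d + (e + b) - (0 + (e + 0)) = d + b := by abel
            rw [this]
            exact Dm.add_mem hd (hBsDm hb)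
          have hEA : E ≤ A := inf_le_left
          have hAS : A ≤ S₀ := inf_le_left
          set jS : W →ₗ[F] S₀ := LinearMap.codRestrict S₀ (π ∘ₗ j)
            (fun w => hAS (hEA (hπ3 _))) with hjS
          have hnmS : ∀ z : S₀, z ∈ nmOn p (restrictRep ρ S₀ hS₀ D.y) ⊤ ↔ (z : M) ∈ Bs := by
            intro z
            rw [mem_iff_subtype_mem_map, nmOn_restrict]
          refine ⟨S₀, inferInstance, inferInstance, inferInstance, restrictRep ρ S₀ hS₀, hρS, jS, ?_, ?_, w₀, ?_⟩
          · intro w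
            refine mem_fixOn.2 ⟨Submodule.mem_top, Subtype.ext ?_⟩
            exact (mem_fixOn.1 (hEA (hπ3 (j w)))).2
          · intro h hh w
            rw [hnmS, ← hADm]
            have hval : ((jS (σ h w) - restrictRep ρ S₀ hS₀ h (jS w) : S₀) : M) =
                π (j (σ h w)) - ρ h (π (j w)) := rfl
            rw [hval]
            refine ⟨A.sub_mem (hEA (hπ3 _)) (hAH h hh _ (hEA (hπ3 _))), ?_⟩
            have : π (j (σ h w)) - ρ h (π (j w)) =
                -(j (σ h w) - π (j (σ h w))) + (j (σ h w) - ρ h (j w)) +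
                  ρ h (j w - π (j w)) := by
              rw [map_sub]; abel
            rw [this]
            exact Dm.add_mem (Dm.add_mem (Dm.neg_mem (hkey _)) (hj2 h hh w))
              (hDmH h hh _ (hkey w))
          · intro hmem
            rw [hnmS] at hmem
            have hval : ((jS w₀ : S₀) : M) = π (j w₀) := rfl
            rw [hval] at hmem
            apply hw₀
            have : j w₀ = (j w₀ - π (j w₀)) + π (j w₀) := by abel
            rw [this]
            exact Dm.add_mem (hkey w₀) (hBsDm hmem)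

end Cfsg.Agent.Lib.Helper74.GT
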