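import Cfsg.Agent.Lib.Helper74.GT.Basic

/-!
# GT (helper74): relative trace argument.  An `N`-endomorphism of a simple `G`-module acts on
`T(S) = S^P / N_P S` as a scalar, when `P = ⟨y⟩` has a single fixed point on `G/N`.
-/

namespace Cfsg.Agent.Lib.Helper74.GT

variable {F : Type*} [Field F] {S : Type*} [AddCommGroup S] [Module F S]


theorem perm_pow_fix {Ω : Type*} (e : Equiv.Perm Ω) (c : Ω) {d : ℕ} (hd : (e ^ d) c = c) (m : ℕ) :
    (e ^ (d * m)) c = c := by
  induction m with
  | zero => simp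
  | succ m ih => rw [Nat.mul_succ, pow_add, Equiv.Perm.mul_apply, hd, ih]

/-- orbit sums over a fixed-point-free action of a cyclic group of prime order are norms. -/
theorem sum_mem_range_of_free {Ω : Type*} [DecidableEq Ω] (e : Equiv.Perm Ω) {p : ℕ}
    (hp : p.Prime) (he : e ^ p = 1) (Y : Module.End F S) (a : Ω → S)
    (ha : ∀ c, a (e c) = Y (a c)) :
    ∀ (n : ℕ) (T : Finset Ω), T.card = n → (∀ c ∈ T, e c ∈ T) → (∀ c ∈ T, e c ≠ c) →
      ∑ c ∈ T, a c ∈ LinearMap.range (∑ i ∈ Finset.range p, Y ^ i) := by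
  intro n
  induction n using Nat.strong_induction_on with
  | _ n ih =>
    intro T hn hT hfree
    by_cases hTe : T = ∅
    · rw [hTe, Finset.sum_empty]; exact Submodule.zero_mem _
    · obtain ⟨c₀, hc₀⟩ := Finset.nonempty_iff_ne_empty.2 hTe
      have hpow : ∀ i : ℕ, ∀ c ∈ T, (e ^ i) c ∈ T := by
        intro i
        induction i with
        | zero => intro c hc; simpa using hc
        | succ i ih' => intro c hc; rw [pow_succ']; exact hT _ (ih' c hc)
      have hapow : ∀ i : ℕ, ∀ c, a ((e ^ i) c) = (Y ^ i) (a c) := by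
        intro i
        induction i with
        | zero => intro c; simp
        | succ i ih' => intro c; rw [pow_succ', pow_succ', Equiv.Perm.mul_apply, ha, ih',
            Module.End.mul_apply]
      have hep : ∀ c, (e ^ p) c = c := fun c => by rw [he]; rfl
      have key : ∀ i j : ℕ, i < j → j < p → (e ^ i) c₀ ≠ (e ^ j) c₀ := by
        intro i j hij hjp heq
        have hd : (e ^ (j - i)) c₀ = c₀ := by
          have : (e ^ j) c₀ = (e ^ i) ((e ^ (j - i)) c₀) := by
            rw [← Equiv.Perm.mul_apply, ← pow_add, Nat.add_sub_cancel' hij.le]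
          rw [this] at heq
          exact ((e ^ i).injective heq).symm
        have hcop : Nat.Coprime (j - i) p := by
          rw [Nat.coprime_comm, hp.coprime_iff_not_dvd]
          exact Nat.not_dvd_of_pos_of_lt (by omega) (by omega)
        obtain ⟨m, -, hm⟩ := Nat.exists_mul_mod_eq_one_of_coprime hcop hp.one_lt
        have h1 := perm_pow_fix e c₀ hd m
        have h2 : (j - i) * m = p * ((j - i) * m / p) + 1 := by
          have := Nat.div_add_mod ((j - i) * m) p
          rw [hm] at this; exact this.symm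
        rw [h2, pow_add, pow_one, Equiv.Perm.mul_apply] at h1
        have h3 : (e ^ (p * ((j - i) * m / p))) (e c₀) = e c₀ :=
          perm_pow_fix e (e c₀) (hep _) _
        rw [h3] at h1
        exact hfree c₀ hc₀ h1
      have hinj : Set.InjOn (fun i : ℕ => (e ^ i) c₀) (Finset.range p : Set ℕ) := by
        intro i hi j hj heq
        rcases lt_trichotomy i j with h | h | h
        · exact absurd heq (key i j h (Finset.mem_range.1 hj))
        · exact h
        · exact absurd heq.symm (key j i h (Finset.mem_range.1 hi))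
      set O : Finset Ω := (Finset.range p).image (fun i : ℕ => (e ^ i) c₀) with hO
      have hOT : O ⊆ T := by
        intro c hc
        obtain ⟨i, _, rfl⟩ := Finset.mem_image.1 hc
        exact hpow i c₀ hc₀
      have hOe : ∀ c, e c ∈ O → c ∈ O := by
        intro c hc
        obtain ⟨i, hi, hic⟩ := Finset.mem_image.1 hc
        rw [Finset.mem_image]
        rcases Nat.eq_zero_or_pos i with h0 | hpos
        · subst h0
          refine ⟨p - 1, Finset.mem_range.2 (by have := hp.pos; omega), ?_⟩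
          apply e.injective
          show e ((e ^ (p - 1)) c₀) = e c
          rw [← Equiv.Perm.mul_apply, ← pow_succ', Nat.sub_add_cancel hp.one_le, hep, ← hic]
          simp
        · refine ⟨i - 1, Finset.mem_range.2 (by have := Finset.mem_range.1 hi; omega), ?_⟩
          apply e.injective
          show e ((e ^ (i - 1)) c₀) = e c
          rw [← Equiv.Perm.mul_apply, ← pow_succ', Nat.sub_add_cancel hpos, hic]
      have hsumO : ∑ c ∈ O, a c = (∑ i ∈ Finset.range p, Y ^ i) (a c₀) := by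
        rw [hO, Finset.sum_image hinj, LinearMap.sum_apply]
        exact Finset.sum_congr rfl fun i _ => hapow i c₀
      have hc₀O : c₀ ∈ O := Finset.mem_image.2 ⟨0, Finset.mem_range.2 hp.pos, by simp⟩
      have hsplit : ∑ c ∈ T, a c = ∑ c ∈ O, a c + ∑ c ∈ T \ O, a c := by
        rw [add_comm]; exact (Finset.sum_sdiff hOT).symm
      rw [hsplit]
      refine Submodule.add_mem _ ⟨a c₀, hsumO.symm⟩ ?_
      refine ih (T \ O).card ?_ (T \ O) rfl ?_ ?_
      · rw [← hn]
        exact Finset.card_lt_card (Finset.sdiff_ssubset hOT ⟨c₀, hc₀O⟩)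
      · intro c hc
        rw [Finset.mem_sdiff] at hc ⊢
        exact ⟨hT c hc.1, fun h => hc.2 (hOe c h)⟩
      · intro c hc
        exact hfree c (Finset.mem_sdiff.1 hc).1

variable {G : Type*} [Group G]

/-- A representation is simple: nontrivial with only trivial invariant subspaces. -/
def IsSimpleRep (ρ : Representation F G S) : Prop :=
  Nontrivial S ∧ ∀ U : Submodule F S, (∀ g, ∀ v ∈ U, ρ g v ∈ U) → U = ⊥ ∨ U = ⊤

theorem schur [IsAlgClosed F] [FiniteDimensional F S] {ρ : Representation F G S}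
    (hρ : IsSimpleRep ρ) (Φ : Module.End F S) (hΦ : ∀ g, Commute (ρ g) Φ) :
    ∃ c : F, ∀ v, Φ v = c • v := by
  have := hρ.1
  obtain ⟨c, hc⟩ := Module.End.exists_eigenvalue Φ
  refine ⟨c, ?_⟩
  have hinv : ∀ g, ∀ v ∈ Module.End.eigenspace Φ c, ρ g v ∈ Module.End.eigenspace Φ c := by
    intro g v hv
    rw [Module.End.mem_eigenspace_iff] at hv ⊢
    have := congrArg (fun f => f v) (hΦ g).eq
    simp only [Module.End.mul_apply] at this
    rw [← this, hv, map_smul]
  rcases hρ.2 _ hinv with h | h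
  · exact absurd h hc
  · intro v
    have : v ∈ Module.End.eigenspace Φ c := by rw [h]; exact Submodule.mem_top
    exact Module.End.mem_eigenspace_iff.1 this

theorem sum_mem_range_of_free' {Ω : Type*} [DecidableEq Ω] (e : Equiv.Perm Ω) {p : ℕ}
    (hp : p.Prime) (he : e ^ p = 1) (Y : Module.End F S) (a : Ω → S)
    (ha : ∀ c, a (e c) = Y (a c)) (T : Finset Ω) (hT : ∀ c ∈ T, e c ∈ T)
    (hfree : ∀ c ∈ T, e c ≠ c) :
    ∑ c ∈ T, a c ∈ LinearMap.range (∑ i ∈ Finset.range p, Y ^ i) :=
  sum_mem_range_of_free e hp he Y a ha T.card T rfl hT hfree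

/-- **C3**: an `N`-endomorphism of a simple `G`-module acts on `T(S) = S^P/N_P S` as a scalar,
where `P = ⟨y⟩` has prime order and `y` has a unique fixed point on `G/N`. -/
theorem scalar_on_T [IsAlgClosed F] [FiniteDimensional F S] [Finite G] {p : ℕ} [hp : Fact p.Prime]
    [CharP F p] {ρ : Representation F G S} (hρ : IsSimpleRep ρ) (N : Subgroup G) (y : G)
    (hyN : y ∈ N) (hy : y ^ p = 1) (hTI : ∀ g : G, g⁻¹ * y * g ∈ N → g ∈ N)
    (φ : Module.End F S) (hφ : ∀ n ∈ N, Commute (ρ n) φ) :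
    ∃ c : F, ∀ s ∈ fixOn (ρ y) ⊤, φ s - c • s ∈ nmOn p (ρ y) ⊤ := by
  classical
  let _ : Fintype (G ⧸ N) := Fintype.ofFinite _
  have hinvmul : ∀ g : G, ρ g * ρ g⁻¹ = 1 := fun g => by rw [← map_mul, mul_inv_cancel, map_one]
  have hinvmul' : ∀ g : G, ρ g⁻¹ * ρ g = 1 := fun g => by rw [← map_mul, inv_mul_cancel, map_one]
  set A : G ⧸ N → Module.End F S := fun c => ρ c.out * φ * ρ c.out⁻¹ with hAdef
  have hA : ∀ g : G, A (g : G ⧸ N) = ρ g * φ * ρ g⁻¹ := by
    intro g
    obtain ⟨n, hn⟩ := QuotientGroup.mk_out_eq_mul N g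
    show ρ ((g : G ⧸ N).out) * φ * ρ ((g : G ⧸ N).out)⁻¹ = _
    rw [hn, mul_inv_rev, map_mul, map_mul]
    have hc := (hφ n n.2).eq
    calc ρ g * ρ n * φ * (ρ (n : G)⁻¹ * ρ g⁻¹) = ρ g * (ρ n * φ) * ρ (n : G)⁻¹ * ρ g⁻¹ := by
          noncomm_ring
      _ = ρ g * (φ * ρ n) * ρ (n : G)⁻¹ * ρ g⁻¹ := by rw [hc]
      _ = ρ g * φ * (ρ n * ρ (n : G)⁻¹) * ρ g⁻¹ := by noncomm_ring
      _ = _ := by rw [hinvmul, mul_one]
  have hAsmul : ∀ (g : G) (c : G ⧸ N), ρ g * A c = A (g • c) * ρ g := by
    intro g c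
    induction c using QuotientGroup.induction_on with
    | H a =>
      rw [show g • (a : G ⧸ N) = ((g * a : G) : G ⧸ N) from rfl, hA, hA, mul_inv_rev, map_mul,
        map_mul]
      calc ρ g * (ρ a * φ * ρ a⁻¹) = ρ g * ρ a * φ * ρ a⁻¹ * 1 := by noncomm_ring
        _ = ρ g * ρ a * φ * ρ a⁻¹ * (ρ g⁻¹ * ρ g) := by rw [hinvmul']
        _ = _ := by noncomm_ring
  set Φ : Module.End F S := ∑ c : G ⧸ N, A c with hΦdef
  have hΦ : ∀ g, Commute (ρ g) Φ := by
    intro g
    show ρ g * Φ = Φ * ρ g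
    rw [hΦdef, Finset.mul_sum, Finset.sum_mul]
    simp_rw [hAsmul]
    exact Fintype.sum_equiv (MulAction.toPerm g) _ _ (fun c => rfl)
  obtain ⟨c, hc⟩ := schur hρ Φ hΦ
  refine ⟨c, fun s hs => ?_⟩
  have hys : ρ y s = s := (mem_fixOn.1 hs).2
  have hyinv : ρ y⁻¹ s = s := by
    have := congrArg (fun f => f s) (hinvmul' y)
    simp only [Module.End.mul_apply, hys] at this
    simpa using this
  set e : Equiv.Perm (G ⧸ N) := MulAction.toPermHom G (G ⧸ N) y with he
  have hep : e ^ p = 1 := by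
    rw [he, ← map_pow, hy, map_one]
  have ha : ∀ c, A (e c) s = ρ y (A c s) := by
    intro c
    have h1 := congrArg (fun f => f (ρ y⁻¹ s)) (hAsmul y c)
    simp only [Module.End.mul_apply] at h1
    rw [← Module.End.mul_apply (ρ y) (ρ y⁻¹), hinvmul] at h1
    rw [hyinv] at h1
    show A (y • c) s = _
    simpa using h1.symm
  set T : Finset (G ⧸ N) := Finset.univ.erase ((1 : G) : G ⧸ N) with hT
  have hTstable : ∀ c ∈ T, e c ∈ T := by
    intro c hc
    rw [hT, Finset.mem_erase] at hc ⊢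
    refine ⟨fun h => hc.1 ?_, Finset.mem_univ _⟩
    have : c = e.symm ((1 : G) : G ⧸ N) := by rw [← h]; simp
    rw [this, he]
    show (y⁻¹ • ((1 : G) : G ⧸ N)) = _
    rw [show y⁻¹ • ((1 : G) : G ⧸ N) = ((y⁻¹ * 1 : G) : G ⧸ N) from rfl]
    rw [QuotientGroup.eq]
    simpa using hyN
  have hTfree : ∀ c ∈ T, e c ≠ c := by
    intro c hc hfix
    rw [hT, Finset.mem_erase] at hc
    apply hc.1
    induction c using QuotientGroup.induction_on with
    | H g =>
      have h1 : ((y * g : G) : G ⧸ N) = (g : G ⧸ N) := hfix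
      rw [QuotientGroup.eq] at h1
      have h2 : g⁻¹ * y * g ∈ N := by
        have := N.inv_mem h1
        simpa [mul_assoc] using this
      have h3 := hTI g h2
      rw [eq_comm, QuotientGroup.eq]
      simpa using h3
  have hsum := sum_mem_range_of_free' (F := F) e hp.out hep (ρ y) (fun c => A c s) ha T hTstable
    hTfree
  have hΦs : Φ s = φ s + ∑ c ∈ T, A c s := by
    rw [hΦdef, LinearMap.sum_apply, hT,
      ← Finset.add_sum_erase Finset.univ (fun c => A c s) (Finset.mem_univ ((1 : G) : G ⧸ N))]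
    congr 1
    rw [hA]; simp
  rw [hc s] at hΦs
  have : φ s - c • s = -∑ c ∈ T, A c s := by rw [hΦs]; abel
  rw [this, nmOn, Submodule.map_top, ← geom_sum_eq_sub_one_pow (F := F) p (ρ y)]
  exact Submodule.neg_mem _ hsum

end Cfsg.Agent.Lib.Helper74.GT
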