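import Cfsg.Agent.Lib.Helper74.GT.Decomp
import Cfsg.Agent.Lib.Helper74.GT.Trace

/-!
# GT (helper74): for a simple `G`-module `S`, `T(S)` is zero or a simple `H`-module.
-/

namespace Cfsg.Agent.Lib.Helper74.GT

variable {F : Type*} [Field F] {S : Type*} [AddCommGroup S] [Module F S]
variable {G : Type*} [Group G]

/-- The local data: `P = ⟨y⟩` of order `p`, `N = P H` with `H` a `p'`-group normalizing `P`,
and `P` has a unique fixed point on `G/N`. -/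
structure PData (G : Type*) [Group G] (p : ℕ) (F : Type*) [Field F] where
  y : G
  N : Subgroup G
  H : Subgroup G
  hy : y ^ p = 1
  hyN : y ∈ N
  hHN : H ≤ N
  hgen : ∀ n ∈ N, ∃ i : ℕ, ∃ h ∈ H, n = y ^ i * h
  hnorm : ∀ h ∈ H, ∃ j : ℕ, h * y * h⁻¹ = y ^ j
  hTI : ∀ g : G, g⁻¹ * y * g ∈ N → g ∈ N
  hH : (Nat.card H : F) ≠ 0

/-- `T(V) = 0`. -/
def TZero (p : ℕ) (Y : Module.End F S) : Prop := fixOn Y ⊤ ≤ nmOn p Y ⊤

/-- `T(V)` is a simple `H`-module. -/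
def TSimple (p : ℕ) (ρ : Representation F G S) (y : G) (H : Subgroup G) : Prop :=
  ¬ TZero p (ρ y) ∧ ∀ X : Submodule F S, (∀ h ∈ H, ∀ v ∈ X, ρ h v ∈ X) →
    nmOn p (ρ y) ⊤ ≤ X → X ≤ fixOn (ρ y) ⊤ → X = nmOn p (ρ y) ⊤ ∨ X = fixOn (ρ y) ⊤

theorem PData.inv_of_YH {p : ℕ} (D : PData G p F) (ρ : Representation F G S) {U : Submodule F S}
    (hy : ∀ v ∈ U, ρ D.y v ∈ U) (hH : ∀ h ∈ D.H, ∀ v ∈ U, ρ h v ∈ U) :
    ∀ n ∈ D.N, ∀ v ∈ U, ρ n v ∈ U := by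
  intro n hn v hv
  obtain ⟨i, h, hh, rfl⟩ := D.hgen n hn
  rw [map_mul, map_pow, Module.End.mul_apply]
  exact pow_mem_of_mem hy i _ (hH h hh v hv)

/-- **C5**: for a simple `G`-module `S`, `T(S)` is zero or a simple `H`-module. -/
theorem tzero_or_tsimple [IsAlgClosed F] [FiniteDimensional F S] [Finite G] {p : ℕ}
    [Fact p.Prime] [CharP F p] (D : PData G p F) {ρ : Representation F G S}
    (hρ : IsSimpleRep ρ) : TZero p (ρ D.y) ∨ TSimple p ρ D.y D.H := by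
  classical
  set σ : Representation F D.N S := ρ.comp D.N.subtype with hσ
  set y' : D.N := ⟨D.y, D.hyN⟩ with hy'
  set H' : Subgroup D.N := D.H.subgroupOf D.N with hH'
  have hσy : σ y' = ρ D.y := rfl
  have hy'p : y' ^ p = 1 := by
    apply Subtype.ext; simp [hy', D.hy]
  have hcard : Nat.card H' = Nat.card D.H :=
    Nat.card_congr (Subgroup.subgroupOfEquivOfLe D.hHN).toEquiv
  have hH'F : (Nat.card H' : F) ≠ 0 := by rw [hcard]; exact D.hH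
  have hnorm' : ∀ h ∈ H', ∃ j : ℕ, h * y' * h⁻¹ = y' ^ j := by
    intro h hh
    obtain ⟨j, hj⟩ := D.hnorm h.1 (Subgroup.mem_subgroupOf.1 hh)
    exact ⟨j, Subtype.ext (by simpa [hy'] using hj)⟩
  have hgen' : ∀ g : D.N, ∃ i : ℕ, ∃ h ∈ H', g = y' ^ i * h := by
    intro g
    obtain ⟨i, h, hh, hg⟩ := D.hgen g.1 g.2
    exact ⟨i, ⟨h, D.hHN hh⟩, Subgroup.mem_subgroupOf.2 hh, Subtype.ext (by simpa [hy'] using hg)⟩
  rcases dec σ y' hy'p H' hH'F hnorm' hgen' with h0 | ⟨U₁, U₂, hc, hU₁, hU₂, hnm, hfix, hmin⟩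
  · left; exact h0
  · right
    rw [hσy] at hnm hfix hmin
    -- translate invariance
    have hU₁y : ∀ v ∈ U₁, ρ D.y v ∈ U₁ := hU₁.1
    have hU₂y : ∀ v ∈ U₂, ρ D.y v ∈ U₂ := hU₂.1
    have hU₁H : ∀ h ∈ D.H, ∀ v ∈ U₁, ρ h v ∈ U₁ := fun h hh v hv =>
      hU₁.2 ⟨h, D.hHN hh⟩ (Subgroup.mem_subgroupOf.2 hh) v hv
    have hU₂H : ∀ h ∈ D.H, ∀ v ∈ U₂, ρ h v ∈ U₂ := fun h hh v hv =>
      hU₂.2 ⟨h, D.hHN hh⟩ (Subgroup.mem_subgroupOf.2 hh) v hv
    have hU₁N := D.inv_of_YH ρ hU₁y hU₁H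
    have hU₂N := D.inv_of_YH ρ hU₂y hU₂H
    set φ : Module.End F S := U₁.projection U₂ hc with hφ
    have hφ1 : ∀ u ∈ U₁, φ u = u := fun u hu => Submodule.projection_apply_of_mem_left hc hu
    have hφ2 : ∀ u ∈ U₂, φ u = 0 := fun u hu => Submodule.projection_apply_of_mem_right hc hu
    have hφN : ∀ n ∈ D.N, Commute (ρ n) φ := by
      intro n hn
      apply LinearMap.ext
      intro v
      obtain ⟨u₁, hu₁, u₂, hu₂, rfl⟩ : ∃ u₁ ∈ U₁, ∃ u₂ ∈ U₂, u₁ + u₂ = v := by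
        have : v ∈ U₁ ⊔ U₂ := by rw [hc.sup_eq_top]; exact Submodule.mem_top
        obtain ⟨a, ha, b, hb, hab⟩ := Submodule.mem_sup.1 this
        exact ⟨a, ha, b, hb, hab⟩
      simp only [Module.End.mul_apply, map_add]
      rw [hφ1 u₁ hu₁, hφ2 u₂ hu₂, hφ1 _ (hU₁N n hn u₁ hu₁), hφ2 _ (hU₂N n hn u₂ hu₂)]
      simp
    obtain ⟨c, hc'⟩ := scalar_on_T hρ D.N D.y D.hyN D.hy D.hTI φ hφN
    have hnmtop : nmOn p (ρ D.y) ⊤ = nmOn p (ρ D.y) U₂ := by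
      rw [← hc.sup_eq_top, nmOn_sup, hnm, bot_sup_eq]
    -- c = 1
    obtain ⟨s₁, hs₁, hs₁ne⟩ := Submodule.exists_mem_ne_zero_of_ne_bot hfix
    have hs₁U : s₁ ∈ U₁ := (mem_fixOn.1 hs₁).1
    have hc1 : c = 1 := by
      have h1 := hc' s₁ (fixOn_mono le_top hs₁)
      rw [hφ1 s₁ hs₁U, hnmtop] at h1
      have h2 : s₁ - c • s₁ ∈ U₂ := by
        obtain ⟨u, hu, hu'⟩ := mem_nmOn.1 h1
        rw [← hu']
        have hx : ∀ v ∈ U₂, (ρ D.y - 1) v ∈ U₂ := fun v hv => by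
          simpa using U₂.sub_mem (hU₂y v hv) hv
        exact pow_mem_of_mem hx _ u hu
      have h3 : s₁ - c • s₁ ∈ U₁ := U₁.sub_mem hs₁U (U₁.smul_mem c hs₁U)
      have h4 : s₁ - c • s₁ = 0 := (Submodule.disjoint_def.1 hc.disjoint) _ h3 h2
      have h5 : (1 - c) • s₁ = 0 := by rw [sub_smul, one_smul]; exact h4
      rcases smul_eq_zero.1 h5 with h | h
      · exact (sub_eq_zero.1 h).symm
      · exact absurd h hs₁ne
    subst hc1
    -- T(U₂) = 0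
    have hU₂T : fixOn (ρ D.y) U₂ ≤ nmOn p (ρ D.y) U₂ := by
      intro s hs
      have h1 := hc' s (fixOn_mono le_top hs)
      rw [hφ2 s (mem_fixOn.1 hs).1, one_smul, zero_sub, hnmtop] at h1
      simpa using Submodule.neg_mem _ h1
    have hU₂eq : fixOn (ρ D.y) U₂ = nmOn p (ρ D.y) U₂ :=
      le_antisymm hU₂T (nmOn_le_fixOn (by rw [← map_pow, D.hy, map_one]) hU₂y)
    have hfixtop : fixOn (ρ D.y) ⊤ = fixOn (ρ D.y) U₁ ⊔ nmOn p (ρ D.y) ⊤ := by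
      rw [← hc.sup_eq_top, fixOn_sup_of_disjoint hc.disjoint hU₁y hU₂y, hU₂eq, hc.sup_eq_top,
        hnmtop]
    have hdisj : Disjoint (fixOn (ρ D.y) U₁) (nmOn p (ρ D.y) ⊤) := by
      rw [hnmtop, ← hU₂eq]
      exact hc.disjoint.mono (inf_le_left) (inf_le_left)
    refine ⟨?_, ?_⟩
    · intro hT0
      have : s₁ ∈ nmOn p (ρ D.y) ⊤ := hT0 (fixOn_mono le_top hs₁)
      exact hs₁ne ((Submodule.disjoint_def.1 hdisj) s₁ hs₁ this)
    · intro X hX hXlo hXhi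
      -- X = (X ⊓ fix U₁) ⊔ nm
      have hXeq : X = (X ⊓ fixOn (ρ D.y) U₁) ⊔ nmOn p (ρ D.y) ⊤ := by
        apply le_antisymm
        · intro v hv
          have hv' := hXhi hv
          rw [hfixtop] at hv'
          obtain ⟨a, ha, b, hb, rfl⟩ := Submodule.mem_sup.1 hv'
          refine Submodule.mem_sup.2 ⟨a, ⟨?_, ha⟩, b, hb, rfl⟩
          have : a = (a + b) - b := by abel
          rw [this]; exact X.sub_mem hv (hXlo hb)
        · exact sup_le inf_le_left hXlo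
      have hfixH : ∀ h ∈ D.H, ∀ v ∈ fixOn (ρ D.y) U₁, ρ h v ∈ fixOn (ρ D.y) U₁ := by
        intro h hh v hv
        obtain ⟨hvU, hvy⟩ := mem_fixOn.1 hv
        refine mem_fixOn.2 ⟨hU₁H h hh v hvU, ?_⟩
        obtain ⟨j, hj⟩ := D.hnorm h⁻¹ (D.H.inv_mem hh)
        have e1 : D.y * h = h * D.y ^ j := by
          rw [← hj]; group
        rw [← Module.End.mul_apply, ← map_mul, e1, map_mul, map_pow, Module.End.mul_apply]
        congr 1
        have : ∀ i : ℕ, ((ρ D.y) ^ i) v = v := by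
          intro i
          induction i with
          | zero => simp
          | succ i ih => rw [pow_succ', Module.End.mul_apply, ih, hvy]
        exact this j
      have hX' : ∀ h : D.N, h ∈ H' → ∀ v ∈ X ⊓ fixOn (ρ D.y) U₁,
          σ h v ∈ X ⊓ fixOn (ρ D.y) U₁ := by
        intro h hh v hv
        have hh' : h.1 ∈ D.H := Subgroup.mem_subgroupOf.1 hh
        exact ⟨hX h.1 hh' v hv.1, hfixH h.1 hh' v hv.2⟩
      rcases hmin _ hX' inf_le_right with h | h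
      · left; rw [hXeq, h, bot_sup_eq]
      · right; rw [hXeq, h, hfixtop]

end Cfsg.Agent.Lib.Helper74.GT
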