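import Cfsg.Agent.Lib.Helper74.GT.Basic

/-!
# GT (helper74): one splitting step for modules of `P ⋊ H`, `|P| = p`, `H` a `p'`-group.
-/

namespace Cfsg.Agent.Lib.Helper74.GT

variable {F : Type*} [Field F] {V : Type*} [AddCommGroup V] [Module F V]

theorem fixOn_sup_of_disjoint {Y : Module.End F V} {U₁ U₂ : Submodule F V} (hd : Disjoint U₁ U₂)
    (h₁ : ∀ v ∈ U₁, Y v ∈ U₁) (h₂ : ∀ v ∈ U₂, Y v ∈ U₂) :
    fixOn Y (U₁ ⊔ U₂) = fixOn Y U₁ ⊔ fixOn Y U₂ := by
  apply le_antisymm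
  · intro v hv
    obtain ⟨hvU, hfix⟩ := mem_fixOn.1 hv
    obtain ⟨u₁, hu₁, u₂, hu₂, rfl⟩ := Submodule.mem_sup.1 hvU
    have hmem : Y u₁ - u₁ ∈ U₁ ⊓ U₂ := by
      refine Submodule.mem_inf.2 ⟨U₁.sub_mem (h₁ _ hu₁) hu₁, ?_⟩
      have : Y u₁ - u₁ = u₂ - Y u₂ := by
        rw [map_add] at hfix
        rw [sub_eq_sub_iff_add_eq_add]; rw [hfix]; abel
      rw [this]
      exact U₂.sub_mem hu₂ (h₂ _ hu₂)
    rw [hd.eq_bot, Submodule.mem_bot, sub_eq_zero] at hmem
    have hmem2 : Y u₂ = u₂ := by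
      rw [map_add, hmem] at hfix
      exact add_left_cancel hfix
    exact Submodule.mem_sup.2 ⟨u₁, mem_fixOn.2 ⟨hu₁, hmem⟩, u₂, mem_fixOn.2 ⟨hu₂, hmem2⟩, rfl⟩
  · exact sup_le (fixOn_mono le_sup_left) (fixOn_mono le_sup_right)

theorem nmOn_sup {p : ℕ} {Y : Module.End F V} {U₁ U₂ : Submodule F V} :
    nmOn p Y (U₁ ⊔ U₂) = nmOn p Y U₁ ⊔ nmOn p Y U₂ := Submodule.map_sup _ _ _

/-- Averaging a projection over a finite group of invertible order. -/
theorem exists_invariant_proj {H : Type*} [Group H] [Fintype H] (τ : Representation F H V)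
    (hH : (Fintype.card H : F) ≠ 0) (U : Submodule F V) (hU : ∀ h, ∀ v ∈ U, τ h v ∈ U)
    (π₀ : V →ₗ[F] V) (hπ₀r : ∀ v, π₀ v ∈ U) (hπ₀U : ∀ u ∈ U, π₀ u = u) :
    ∃ π : Module.End F V, (∀ v, π v ∈ U) ∧ (∀ u ∈ U, π u = u) ∧ (∀ h, Commute (τ h) π) ∧
      ∀ c : Module.End F V, (∀ h, Commute (τ h⁻¹ * c * τ h) π₀) → Commute c π := by
  classical
  refine ⟨(Fintype.card H : F)⁻¹ • ∑ h : H, τ h * π₀ * τ h⁻¹, ?_, ?_, ?_, ?_⟩
  · intro v
    simp only [LinearMap.smul_apply, LinearMap.sum_apply, Module.End.mul_apply]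
    exact U.smul_mem _ (U.sum_mem fun h _ => hU h _ (hπ₀r _))
  · intro u hu
    simp only [LinearMap.smul_apply, LinearMap.sum_apply, Module.End.mul_apply]
    have : ∀ h : H, τ h (π₀ (τ h⁻¹ u)) = u := by
      intro h
      rw [hπ₀U _ (hU _ _ hu), ← Module.End.mul_apply, ← map_mul, mul_inv_cancel, map_one]
      rfl
    simp only [this, Finset.sum_const, Finset.card_univ, ← Nat.cast_smul_eq_nsmul F, smul_smul,
      inv_mul_cancel₀ hH, one_smul]
  · intro h
    have h1 : τ h * ∑ g : H, τ g * π₀ * τ g⁻¹ = ∑ g : H, τ (h * g) * π₀ * τ g⁻¹ := by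
      rw [Finset.mul_sum]; refine Finset.sum_congr rfl fun g _ => ?_
      rw [map_mul]; noncomm_ring
    have h2 : (∑ g : H, τ g * π₀ * τ g⁻¹) * τ h = ∑ g : H, τ g * π₀ * τ (g⁻¹ * h) := by
      rw [Finset.sum_mul]; refine Finset.sum_congr rfl fun g _ => ?_
      rw [map_mul]; noncomm_ring
    have h3 : ∑ g : H, τ (h * g) * π₀ * τ g⁻¹ = ∑ g : H, τ g * π₀ * τ (g⁻¹ * h) := by
      refine Fintype.sum_equiv (Equiv.mulLeft h) _ _ fun g => ?_
      simp [mul_assoc]
    show τ h * _ = _ * τ h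
    rw [mul_smul_comm, smul_mul_assoc, h1, h2, h3]
  · intro c hc
    show c * _ = _ * c
    rw [mul_smul_comm, smul_mul_assoc, Finset.mul_sum, Finset.sum_mul]
    congr 1
    refine Finset.sum_congr rfl fun h _ => ?_
    have e1 : c * (τ h * π₀ * τ h⁻¹) = τ h * ((τ h⁻¹ * c * τ h) * π₀) * τ h⁻¹ := by
      have : τ h * τ h⁻¹ = 1 := by rw [← map_mul, mul_inv_cancel, map_one]
      calc c * (τ h * π₀ * τ h⁻¹) = (τ h * τ h⁻¹) * c * (τ h * π₀ * τ h⁻¹) := by rw [this, one_mul]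
        _ = _ := by noncomm_ring
    have e2 : τ h * π₀ * τ h⁻¹ * c = τ h * (π₀ * (τ h⁻¹ * c * τ h)) * τ h⁻¹ := by
      have : τ h * τ h⁻¹ = 1 := by rw [← map_mul, mul_inv_cancel, map_one]
      calc τ h * π₀ * τ h⁻¹ * c = τ h * π₀ * τ h⁻¹ * c * (τ h * τ h⁻¹) := by rw [this, mul_one]
        _ = _ := by noncomm_ring
    rw [e1, e2, (hc h).eq]

theorem exists_minimal_invariant [FiniteDimensional F V] (P : Submodule F V → Prop)
    (R : Submodule F V) (hR : R ≠ ⊥) (hPR : P R) :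
    ∃ W' : Submodule F V, W' ≠ ⊥ ∧ P W' ∧ W' ≤ R ∧ ∀ X, P X → X ≤ W' → X = ⊥ ∨ X = W' := by
  have wf : WellFounded ((· < ·) : Submodule F V → Submodule F V → Prop) := wellFounded_lt
  obtain ⟨W', ⟨h1, h2, h3⟩, hmin⟩ :=
    wf.has_min {X : Submodule F V | X ≠ ⊥ ∧ P X ∧ X ≤ R} ⟨R, hR, hPR, le_rfl⟩
  refine ⟨W', h1, h2, h3, fun X hPX hXW => ?_⟩
  by_cases hX : X = ⊥
  · exact Or.inl hX
  · right
    by_contra hne
    exact hmin X ⟨hX, hPX, hXW.trans h3⟩ (lt_of_le_of_ne hXW hne)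

/-- the map `(w_0,…,w_k) ↦ ∑ x^m w_m`. -/
noncomputable def theta (x : Module.End F V) (k : ℕ) (W : Submodule F V) :
    (Fin (k + 1) → W) →ₗ[F] V :=
  ∑ m : Fin (k + 1), (x ^ (m : ℕ)) ∘ₗ W.subtype ∘ₗ LinearMap.proj m

theorem theta_apply (x : Module.End F V) (k : ℕ) (W : Submodule F V) (f : Fin (k + 1) → W) :
    theta x k W f = ∑ m : Fin (k + 1), (x ^ (m : ℕ)) (f m : V) := by
  simp [theta, LinearMap.sum_apply]

theorem pow_apply_eq_zero_of_le {x : Module.End F V} {k : ℕ} (hx : x ^ (k + 1) = 0) {n : ℕ}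
    (hn : k + 1 ≤ n) (v : V) : (x ^ n) v = 0 := by
  obtain ⟨d, rfl⟩ := Nat.exists_eq_add_of_le hn
  rw [pow_add, hx, zero_mul]; rfl

theorem coeff_zero_of_shift {x : Module.End F V} {k : ℕ} (hx : x ^ (k + 1) = 0)
    (W : Submodule F V) (hinj : ∀ w ∈ W, (x ^ k) w = 0 → w = 0) (s : ℕ)
    (f : Fin (k + 1) → W) (hf : ∑ m : Fin (k + 1), (x ^ ((m : ℕ) + s)) (f m : V) = 0) :
    ∀ m : Fin (k + 1), (m : ℕ) + s ≤ k → f m = 0 := by
  have key : ∀ n : ℕ, ∀ m : Fin (k + 1), (m : ℕ) = n → n + s ≤ k → f m = 0 := by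
    intro n
    induction n using Nat.strong_induction_on with
    | _ n ih =>
      intro m hm hns
      have h0 : (x ^ (k - s - n)) (∑ m' : Fin (k + 1), (x ^ ((m' : ℕ) + s)) (f m' : V)) = 0 := by
        rw [hf, map_zero]
      rw [map_sum] at h0
      rw [Finset.sum_eq_single m] at h0
      · rw [← Module.End.mul_apply, ← pow_add, hm,
          show k - s - n + (n + s) = k by omega] at h0
        exact Subtype.ext (hinj _ (f m).2 h0)
      · intro m' _ hne
        rcases lt_or_gt_of_ne (fun h => hne (Fin.ext h) : (m' : ℕ) ≠ m) with hlt | hgt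
        · rw [ih m' (by omega) m' rfl (by omega)]; simp
        · rw [← Module.End.mul_apply, ← pow_add]
          exact pow_apply_eq_zero_of_le hx (by omega) _
      · intro h; exact absurd (Finset.mem_univ m) h
  intro m hm
  exact key m m rfl hm

theorem theta_injective {x : Module.End F V} {k : ℕ} (hx : x ^ (k + 1) = 0) (W : Submodule F V)
    (hinj : ∀ w ∈ W, (x ^ k) w = 0 → w = 0) : Function.Injective (theta x k W) := by
  rw [← LinearMap.ker_eq_bot, LinearMap.ker_eq_bot']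
  intro f hf
  rw [theta_apply] at hf
  funext m
  exact coeff_zero_of_shift hx W hinj 0 f (by simpa using hf) m (by have := m.2; omega)

theorem theta_single (x : Module.End F V) (k : ℕ) (W : Submodule F V) (m : Fin (k + 1)) (w : W) :
    theta x k W (Pi.single m w) = (x ^ (m : ℕ)) (w : V) := by
  classical
  rw [theta_apply, Finset.sum_eq_single m]
  · simp
  · intro m' _ hne; simp [Pi.single_eq_of_ne hne]
  · intro h; exact absurd (Finset.mem_univ m) h

/-- The free `F[x]/(x^(k+1))`-submodule generated by `W` (when `x^k` is injective on `W`) is a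
direct summand as an `F[x]`-module. -/
theorem exists_proj_of_free {x : Module.End F V} {k : ℕ} (hx : x ^ (k + 1) = 0)
    (W : Submodule F V) (hinj : ∀ w ∈ W, (x ^ k) w = 0 → w = 0) :
    ∃ (U' : Submodule F V) (π : Module.End F V),
      W ≤ U' ∧ (∀ v ∈ U', x v ∈ U') ∧
      (∀ Z : Submodule F V, W ≤ Z → (∀ v ∈ Z, x v ∈ Z) → U' ≤ Z) ∧
      (∀ v, π v ∈ U') ∧ (∀ u ∈ U', π u = u) ∧ Commute x π ∧
      U' ⊓ LinearMap.ker x = W.map (x ^ k) := by
  classical
  have hΘinj := theta_injective hx W hinj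
  obtain ⟨r, hr⟩ := LinearMap.exists_leftInverse_of_injective (theta x k W)
    (LinearMap.ker_eq_bot.2 hΘinj)
  have hr' : ∀ f, r (theta x k W f) = f := fun f => by
    have := congrArg (fun g => g f) hr; simpa using this
  set τ : Module.End F V := W.subtype ∘ₗ LinearMap.proj (Fin.last k) ∘ₗ r with hτ
  have hτW : ∀ v, τ v ∈ W := fun v => by simp [hτ]
  have hτgen : ∀ m : ℕ, m ≤ k → ∀ w ∈ W, τ ((x ^ m) w) = if m = k then w else 0 := by
    intro m hm w hw
    have h1 : (x ^ m) w = theta x k W (Pi.single ⟨m, by omega⟩ ⟨w, hw⟩) := by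
      rw [theta_single]
    rw [h1, hτ]
    simp only [LinearMap.comp_apply, hr', LinearMap.proj_apply, Submodule.subtype_apply]
    by_cases hmk : m = k
    · subst hmk
      simp [Fin.last]
    · rw [if_neg hmk, Pi.single_eq_of_ne]
      · rfl
      · intro h; apply hmk; have := congrArg Fin.val h; simpa [Fin.last] using this.symm
  set U' : Submodule F V := LinearMap.range (theta x k W) with hU'
  have hgen : ∀ m : ℕ, ∀ w ∈ W, (x ^ m) w ∈ U' := by
    intro m w hw
    by_cases hm : m ≤ k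
    · exact ⟨Pi.single ⟨m, by omega⟩ ⟨w, hw⟩, by rw [theta_single]⟩
    · rw [pow_apply_eq_zero_of_le hx (by omega)]; exact U'.zero_mem
  set π : Module.End F V := ∑ m ∈ Finset.range (k + 1), x ^ m * τ * x ^ (k - m) with hπ
  have hπgen : ∀ m : ℕ, m ≤ k → ∀ w ∈ W, π ((x ^ m) w) = (x ^ m) w := by
    intro m hm w hw
    rw [hπ, LinearMap.sum_apply, Finset.sum_eq_single m]
    · simp only [Module.End.mul_apply]
      rw [← Module.End.mul_apply (x ^ (k - m)), ← pow_add, Nat.sub_add_cancel hm,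
        hτgen k le_rfl w hw, if_pos rfl]
    · intro m' hm' hne
      have hm'k : m' ≤ k := by have := Finset.mem_range.1 hm'; omega
      simp only [Module.End.mul_apply]
      rw [← Module.End.mul_apply (x ^ (k - m')), ← pow_add]
      rcases lt_or_gt_of_ne hne with hlt | hgt
      · rw [pow_apply_eq_zero_of_le hx (n := k - m' + m) (by omega)]; simp
      · rw [hτgen (k - m' + m) (by omega) w hw, if_neg (by omega)]; simp
    · intro h; exact absurd (Finset.mem_range.2 (by omega)) h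
  refine ⟨U', π, ?_, ?_, ?_, ?_, ?_, ?_, ?_⟩
  · intro w hw
    simpa using hgen 0 w hw
  · rintro _ ⟨f, rfl⟩
    rw [theta_apply, map_sum]
    refine U'.sum_mem fun m _ => ?_
    rw [← Module.End.mul_apply, ← pow_succ']
    exact hgen _ _ (f m).2
  · rintro Z hWZ hZ _ ⟨f, rfl⟩
    rw [theta_apply]
    refine Z.sum_mem fun m _ => ?_
    have : ∀ n : ℕ, ∀ v ∈ Z, (x ^ n) v ∈ Z := by
      intro n
      induction n with
      | zero => intro v hv; simpa using hv
      | succ n ih => intro v hv; rw [pow_succ']; exact hZ _ (ih v hv)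
    exact this _ _ (hWZ (f m).2)
  · intro v
    rw [hπ, LinearMap.sum_apply]
    refine U'.sum_mem fun m _ => ?_
    simp only [Module.End.mul_apply]
    exact hgen m _ (hτW _)
  · rintro _ ⟨f, rfl⟩
    rw [theta_apply, map_sum]
    refine Finset.sum_congr rfl fun m _ => ?_
    exact hπgen m (by have := m.2; omega) _ (f m).2
  · show x * π = π * x
    rw [hπ, Finset.mul_sum, Finset.sum_mul, Finset.sum_range_succ, Finset.sum_range_succ']
    have e1 : x * (x ^ k * τ * x ^ (k - k)) = 0 := by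
      rw [← mul_assoc, ← mul_assoc, ← pow_succ', hx]; simp
    have e2 : x ^ 0 * τ * x ^ (k - 0) * x = 0 := by
      rw [mul_assoc, ← pow_succ, Nat.sub_zero, hx]; simp
    rw [e1, e2, add_zero, add_zero]
    refine Finset.sum_congr rfl fun m hm => ?_
    have hm' := Finset.mem_range.1 hm
    rw [show k - m = (k - (m + 1)) + 1 by omega, pow_succ x (k - (m + 1)), pow_succ' x m]
    noncomm_ring
  · apply le_antisymm
    · intro v hv
      obtain ⟨⟨f, rfl⟩, hxv⟩ := Submodule.mem_inf.1 hv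
      rw [LinearMap.mem_ker, theta_apply, map_sum] at hxv
      have hf : ∑ m : Fin (k + 1), (x ^ ((m : ℕ) + 1)) (f m : V) = 0 := by
        rw [← hxv]
        refine Finset.sum_congr rfl fun m _ => ?_
        rw [← Module.End.mul_apply, ← pow_succ']
      have hz := coeff_zero_of_shift hx W hinj 1 f hf
      rw [theta_apply, Finset.sum_eq_single (Fin.last k)]
      · exact ⟨_, (f (Fin.last k)).2, by simp [Fin.last]⟩
      · intro m _ hne
        have hmk : (m : ℕ) + 1 ≤ k := by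
          have := m.2
          have h2 : (m : ℕ) ≠ k := fun h => hne (Fin.ext (by simpa [Fin.last] using h))
          omega
        rw [hz m hmk]; simp
      · intro h; exact absurd (Finset.mem_univ _) h
    · rintro _ ⟨w, hw, rfl⟩
      refine Submodule.mem_inf.2 ⟨hgen k w hw, ?_⟩
      rw [LinearMap.mem_ker, ← Module.End.mul_apply, ← pow_succ', hx]; rfl

theorem semicomm_pow {A x u : Module.End F V} (hux : Commute u x) (h : A * x = x * (u * A))
    (m : ℕ) : A * x ^ m = x ^ m * (u ^ m * A) := by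
  induction m with
  | zero => simp
  | succ m ih =>
    have hc : Commute (u ^ m) x := hux.pow_left m
    calc A * x ^ (m + 1) = (A * x ^ m) * x := by rw [pow_succ, mul_assoc]
      _ = x ^ m * (u ^ m * (A * x)) := by rw [ih]; noncomm_ring
      _ = x ^ m * (u ^ m * (x * (u * A))) := by rw [h]
      _ = x ^ m * ((u ^ m * x) * (u * A)) := by noncomm_ring
      _ = x ^ m * ((x * u ^ m) * (u * A)) := by rw [hc.eq]
      _ = x ^ (m + 1) * (u ^ (m + 1) * A) := by rw [pow_succ, pow_succ]; noncomm_ring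

variable {Γ : Type*} [Group Γ]

/-- the twisted commutation of `σ h` with `x = σ y - 1` when `h y h⁻¹ = y^j`. -/
theorem exists_semicomm (σ : Representation F Γ V) {y h : Γ} {j : ℕ} (hj : h * y * h⁻¹ = y ^ j) :
    ∃ u : Module.End F V, Commute u (σ y - 1) ∧ σ h * (σ y - 1) = (σ y - 1) * (u * σ h) ∧
      (∀ U : Submodule F V, (∀ v ∈ U, σ y v ∈ U) → ∀ v ∈ U, u v ∈ U) ∧
      ∀ v, σ y v = v → u v = (j : F) • v := by
  refine ⟨∑ i ∈ Finset.range j, (σ y) ^ i, ?_, ?_, ?_, ?_⟩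
  · apply Commute.sum_left
    intro i _
    exact ((Commute.refl (σ y)).pow_left i).sub_right (Commute.one_right _)
  · have h1 : σ h * σ y = (σ y) ^ j * σ h := by
      rw [← map_mul, ← map_pow, ← map_mul]
      congr 1
      rw [← hj]; group
    rw [← mul_assoc, mul_geom_sum, mul_sub, sub_mul, h1, mul_one, one_mul]
  · intro U hU v hv
    rw [LinearMap.sum_apply]
    refine U.sum_mem fun i _ => ?_
    have : ∀ i : ℕ, ∀ v ∈ U, ((σ y) ^ i) v ∈ U := by
      intro i
      induction i with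
      | zero => intro v hv; simpa using hv
      | succ i ih => intro v hv; rw [pow_succ']; exact hU _ (ih v hv)
    exact this i v hv
  · intro v hv
    rw [LinearMap.sum_apply]
    have : ∀ i : ℕ, ((σ y) ^ i) v = v := by
      intro i
      induction i with
      | zero => simp
      | succ i ih => rw [pow_succ', Module.End.mul_apply, ih, hv]
    simp [this, Nat.cast_smul_eq_nsmul]

theorem xpow_eq_zero {p : ℕ} [Fact p.Prime] [CharP F p] (σ : Representation F Γ V) {y : Γ}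
    (hy : y ^ p = 1) : (σ y - 1) ^ p = 0 := by
  rw [sub_one_pow_char (F := F) p (σ y), ← map_pow, hy, map_one, sub_self]


theorem pow_mem_of_mem {x : Module.End F V} {U : Submodule F V} (hU : ∀ v ∈ U, x v ∈ U) (n : ℕ) :
    ∀ v ∈ U, (x ^ n) v ∈ U := by
  induction n with
  | zero => intro v hv; simpa using hv
  | succ n ih => intro v hv; rw [pow_succ']; exact hU _ (ih v hv)

/-- full semi-commutation package for `h` normalizing `⟨y⟩`. -/
theorem exists_semicomm_pow (σ : Representation F Γ V) {y h : Γ} {j : ℕ}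
    (hj : h * y * h⁻¹ = y ^ j) :
    ∃ u : Module.End F V, Commute u (σ y - 1) ∧
      (∀ m : ℕ, σ h * (σ y - 1) ^ m = (σ y - 1) ^ m * (u ^ m * σ h)) ∧
      (∀ U : Submodule F V, (∀ v ∈ U, σ y v ∈ U) → ∀ v ∈ U, u v ∈ U) ∧
      ∀ v, σ y v = v → u v = (j : F) • v := by
  obtain ⟨u, h1, h2, h3, h4⟩ := exists_semicomm σ hj
  exact ⟨u, h1, fun m => semicomm_pow h1 h2 m, h3, h4⟩

theorem split_step [FiniteDimensional F V] [Nontrivial V] {p : ℕ} [Fact p.Prime] [CharP F p]
    (σ : Representation F Γ V) (y : Γ) (hy : y ^ p = 1) (H : Subgroup Γ) [Finite H]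
    (hH : (Nat.card H : F) ≠ 0) (hnorm : ∀ h ∈ H, ∃ j : ℕ, h * y * h⁻¹ = y ^ j) :
    ∃ U' U'' : Submodule F V, U' ≠ ⊥ ∧ IsCompl U' U'' ∧
      (∀ v ∈ U', σ y v ∈ U') ∧ (∀ h ∈ H, ∀ v ∈ U', σ h v ∈ U') ∧
      (∀ v ∈ U'', σ y v ∈ U'') ∧ (∀ h ∈ H, ∀ v ∈ U'', σ h v ∈ U'') ∧
      (fixOn (σ y) U' ≤ nmOn p (σ y) U' ∨
        (nmOn p (σ y) U' = ⊥ ∧ fixOn (σ y) U' ≠ ⊥ ∧
          ∀ X : Submodule F V, (∀ h ∈ H, ∀ v ∈ X, σ h v ∈ X) → X ≤ fixOn (σ y) U' →
            X = ⊥ ∨ X = fixOn (σ y) U')) := by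
  classical
  let _ : Fintype H := Fintype.ofFinite H
  have hH' : (Fintype.card H : F) ≠ 0 := by rwa [← Nat.card_eq_fintype_card]
  set x : Module.End F V := σ y - 1 with hxdef
  have hσy : σ y = x + 1 := by rw [hxdef]; abel
  have hxp : x ^ p = 0 := xpow_eq_zero σ hy
  have h0 : x ^ 0 ≠ 0 := by
    rw [pow_zero]; exact one_ne_zero
  set k := Nat.findGreatest (fun k => x ^ k ≠ 0) p with hkdef
  have hk : x ^ k ≠ 0 := Nat.findGreatest_spec (P := fun k => x ^ k ≠ 0) (Nat.zero_le p) h0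
  have hkp : k < p := by
    have hle := Nat.findGreatest_le (P := fun k => x ^ k ≠ 0) p
    rcases hle.lt_or_eq with h | h
    · exact h
    · rw [← hkdef] at h; rw [h] at hk; exact absurd hxp hk
  have hk1 : x ^ (k + 1) = 0 := by
    by_contra hne
    have := Nat.le_findGreatest (P := fun k => x ^ k ≠ 0) (Nat.succ_le_of_lt hkp) hne
    rw [← hkdef] at this; omega
  -- invariance translations
  have hxinv_of : ∀ U : Submodule F V, (∀ v ∈ U, σ y v ∈ U) → ∀ v ∈ U, x v ∈ U := by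
    intro U hU v hv
    rw [hxdef]; simpa using U.sub_mem (hU v hv) hv
  have hyinv_of : ∀ U : Submodule F V, (∀ v ∈ U, x v ∈ U) → ∀ v ∈ U, σ y v ∈ U := by
    intro U hU v hv
    rw [hσy]; simpa using U.add_mem (hU v hv) hv
  -- semi-commutation
  have hsemi : ∀ h ∈ H, ∃ (u : Module.End F V) (c : F), Commute u x ∧
      (∀ m : ℕ, σ h * x ^ m = x ^ m * (u ^ m * σ h)) ∧
      (∀ U : Submodule F V, (∀ v ∈ U, σ y v ∈ U) → ∀ v ∈ U, u v ∈ U) ∧
      ∀ v, x v = 0 → u v = c • v := by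
    intro h hh
    obtain ⟨j, hj⟩ := hnorm h hh
    obtain ⟨u, h1, h2, h3, h4⟩ := exists_semicomm_pow σ hj
    refine ⟨u, (j : F), h1, h2, h3, fun v hv => h4 v ?_⟩
    rw [hσy]; simp [hv]
  -- x^m (σ h v) = σ h (u'^m (x^m v)) with u' attached to h⁻¹
  have hswap : ∀ h ∈ H, ∃ (u : Module.End F V) (c : F), Commute u x ∧
      (∀ (m : ℕ) (v : V), (x ^ m) (σ h v) = σ h ((u ^ m) ((x ^ m) v))) ∧
      ∀ v, x v = 0 → u v = c • v := by
    intro h hh
    obtain ⟨u, c, h1, h2, _, h4⟩ := hsemi h⁻¹ (H.inv_mem hh)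
    refine ⟨u, c, h1, fun m v => ?_, h4⟩
    have e1 : σ h * σ h⁻¹ = 1 := by rw [← map_mul, mul_inv_cancel, map_one]
    have e2 : σ h⁻¹ * σ h = 1 := by rw [← map_mul, inv_mul_cancel, map_one]
    have e3 : x ^ m * σ h = σ h * (u ^ m * x ^ m) := by
      calc x ^ m * σ h = (σ h * σ h⁻¹) * x ^ m * σ h := by rw [e1, one_mul]
        _ = σ h * (σ h⁻¹ * x ^ m) * σ h := by noncomm_ring
        _ = σ h * (x ^ m * (u ^ m * σ h⁻¹)) * σ h := by rw [h2 m]
        _ = σ h * (x ^ m * u ^ m) * (σ h⁻¹ * σ h) := by noncomm_ring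
        _ = σ h * (u ^ m * x ^ m) := by
          rw [e2, mul_one, ((h1.pow_left m).pow_right m).eq]
    have := congrArg (fun f => f v) e3
    simpa [Module.End.mul_apply] using this
  set K : Submodule F V := LinearMap.ker (x ^ k) with hK
  set R : Submodule F V := LinearMap.range (x ^ k) with hR
  have hRne : R ≠ ⊥ := by
    rw [hR, Ne, LinearMap.range_eq_bot]; exact hk
  have hRx : ∀ v ∈ R, x v = 0 := by
    rintro _ ⟨v, rfl⟩
    rw [← Module.End.mul_apply, ← pow_succ', hk1]; rfl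
  have hRH : ∀ h ∈ H, ∀ v ∈ R, σ h v ∈ R := by
    rintro h hh _ ⟨v, rfl⟩
    obtain ⟨u, c, h1, h2, _, _⟩ := hsemi h hh
    refine ⟨(u ^ k) (σ h v), ?_⟩
    have := congrArg (fun f => f v) (h2 k)
    simpa [Module.End.mul_apply] using this.symm
  have hKH : ∀ h : H, ∀ v ∈ K, (σ.comp H.subtype) h v ∈ K := by
    rintro ⟨h, hh⟩ v hv
    obtain ⟨u, c, h1, h2, _⟩ := hswap h hh
    rw [hK, LinearMap.mem_ker] at hv ⊢
    show (x ^ k) (σ h v) = 0
    rw [h2, hv, map_zero, map_zero]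
  -- H-invariant complement of K
  obtain ⟨C₀, hC₀⟩ := Submodule.exists_isCompl K
  obtain ⟨πK, hπK1, hπK2, hπK3, -⟩ := exists_invariant_proj (σ.comp H.subtype) hH' K hKH
    (K.subtype ∘ₗ Submodule.projectionOnto K C₀ hC₀) (fun v => by simp)
    (fun u hu => by
      rw [LinearMap.comp_apply, Submodule.projectionOnto_apply_of_mem_left hC₀ hu]; rfl)
  set C : Submodule F V := LinearMap.ker πK with hC
  have hCH : ∀ h ∈ H, ∀ v ∈ C, σ h v ∈ C := by
    intro h hh v hv
    rw [hC, LinearMap.mem_ker] at hv ⊢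
    have := congrArg (fun f => f v) (hπK3 ⟨h, hh⟩).eq
    simp only [Module.End.mul_apply] at this
    rw [hv, map_zero] at this
    exact this.symm
  have hKC : ∀ v, v ∈ K → v ∈ C → v = 0 := by
    intro v hvK hvC
    rw [hC, LinearMap.mem_ker, hπK2 v hvK] at hvC; exact hvC
  have hdecomp : ∀ v, ∃ a ∈ K, ∃ c ∈ C, v = a + c := by
    intro v
    refine ⟨πK v, hπK1 v, v - πK v, ?_, by abel⟩
    rw [hC, LinearMap.mem_ker, map_sub, hπK2 _ (hπK1 v), sub_self]
  -- minimal H-invariant W' in R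
  obtain ⟨W', hW'ne, hW'H, hW'R, hW'min⟩ :=
    exists_minimal_invariant (fun X : Submodule F V => ∀ h ∈ H, ∀ v ∈ X, σ h v ∈ X) R hRne hRH
  set W : Submodule F V := C ⊓ W'.comap (x ^ k) with hW
  have hinj : ∀ w ∈ W, (x ^ k) w = 0 → w = 0 := by
    intro w hw h0
    exact hKC w (by rw [hK, LinearMap.mem_ker]; exact h0) hw.1
  have hWmap : W.map (x ^ k) = W' := by
    apply le_antisymm
    · rintro _ ⟨w, hw, rfl⟩; exact hw.2
    · intro w' hw'
      obtain ⟨v, rfl⟩ := hW'R hw'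
      obtain ⟨a, ha, c, hc, rfl⟩ := hdecomp v
      have ha0 : (x ^ k) a = 0 := by rw [hK, LinearMap.mem_ker] at ha; exact ha
      refine ⟨c, ⟨hc, ?_⟩, by rw [map_add, ha0, zero_add]⟩
      show (x ^ k) c ∈ W'
      rw [map_add, ha0, zero_add] at hw'; exact hw'
  have hWH : ∀ h ∈ H, ∀ w ∈ W, σ h w ∈ W := by
    intro h hh w hw
    refine ⟨hCH h hh w hw.1, ?_⟩
    show (x ^ k) (σ h w) ∈ W'
    obtain ⟨u, c, h1, h2, h3⟩ := hswap h hh
    rw [h2]
    apply hW'H h hh
    have hw' : (x ^ k) w ∈ W' := hw.2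
    have hfix : ∀ n : ℕ, (u ^ n) ((x ^ k) w) = c ^ n • (x ^ k) w := by
      intro n
      induction n with
      | zero => simp
      | succ n ih =>
        rw [pow_succ', Module.End.mul_apply, ih, map_smul, h3 _ (hRx _ (hW'R hw')), smul_smul,
          pow_succ]
    rw [hfix]
    exact W'.smul_mem _ hw'
  obtain ⟨U', π, hWU', hU'x, hU'min, hπ1, hπ2, hπ3, hU'fix⟩ := exists_proj_of_free hk1 W hinj
  have hU'y : ∀ v ∈ U', σ y v ∈ U' := hyinv_of U' hU'x
  have hU'H : ∀ h ∈ H, ∀ v ∈ U', σ h v ∈ U' := by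
    intro h hh
    have : U' ≤ U'.comap (σ h) := by
      apply hU'min
      · intro w hw; exact hWU' (hWH h hh w hw)
      · intro v hv
        show σ h (x v) ∈ U'
        obtain ⟨u, c, h1, h2, h3, _⟩ := hsemi h hh
        have e := congrArg (fun f => f v) (h2 1)
        simp only [pow_one, Module.End.mul_apply] at e
        rw [e]
        exact hU'x _ (h3 U' hU'y _ hv)
    exact fun v hv => this hv
  have hπy : Commute (σ y) π := by
    rw [hσy]; exact hπ3.add_left (Commute.one_left _)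
  obtain ⟨π', hπ'1, hπ'2, hπ'3, hπ'4⟩ := exists_invariant_proj (σ.comp H.subtype) hH' U'
    (fun h v hv => hU'H h.1 h.2 v hv) π hπ1 hπ2
  have hπ'y : Commute (σ y) π' := by
    apply hπ'4
    rintro ⟨h, hh⟩
    obtain ⟨j, hj⟩ := hnorm h⁻¹ (H.inv_mem hh)
    have : (σ.comp H.subtype) (⟨h, hh⟩ : H)⁻¹ * σ y * (σ.comp H.subtype) ⟨h, hh⟩ = (σ y) ^ j := by
      show σ (h⁻¹) * σ y * σ h = _
      rw [← map_mul, ← map_mul, ← map_pow]
      congr 1
      rw [← hj, inv_inv]
    rw [this]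
    exact hπy.pow_left j
  set U'' : Submodule F V := LinearMap.ker π' with hU''
  have hcompl : IsCompl U' U'' := by
    constructor
    · rw [Submodule.disjoint_def]
      intro v hv1 hv2
      rw [hU'', LinearMap.mem_ker, hπ'2 v hv1] at hv2; exact hv2
    · rw [codisjoint_iff, eq_top_iff]
      intro v _
      refine Submodule.mem_sup.2 ⟨π' v, hπ'1 v, v - π' v, ?_, by abel⟩
      rw [hU'', LinearMap.mem_ker, map_sub, hπ'2 _ (hπ'1 v), sub_self]
  have hU''y : ∀ v ∈ U'', σ y v ∈ U'' := by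
    intro v hv
    rw [hU'', LinearMap.mem_ker] at hv ⊢
    have := congrArg (fun f => f v) hπ'y.eq
    simp only [Module.End.mul_apply] at this
    rw [hv, map_zero] at this; exact this.symm
  have hU''H : ∀ h ∈ H, ∀ v ∈ U'', σ h v ∈ U'' := by
    intro h hh v hv
    rw [hU'', LinearMap.mem_ker] at hv ⊢
    have := congrArg (fun f => f v) (hπ'3 ⟨h, hh⟩).eq
    simp only [Module.End.mul_apply] at this
    rw [hv, map_zero] at this; exact this.symm
  have hWne : W ≠ ⊥ := by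
    intro h; rw [h, Submodule.map_bot] at hWmap; exact hW'ne hWmap.symm
  have hU'ne : U' ≠ ⊥ := by
    intro h; rw [h, le_bot_iff] at hWU'; exact hWne hWU'
  have hfixeq : fixOn (σ y) U' = W' := by
    rw [fixOn, ← hxdef, hU'fix, hWmap]
  refine ⟨U', U'', hU'ne, hcompl, hU'y, hU'H, hU''y, hU''H, ?_⟩
  by_cases hkp1 : k + 1 ≤ p - 1
  · right
    refine ⟨?_, by rw [hfixeq]; exact hW'ne, ?_⟩
    · rw [nmOn, ← hxdef]
      have : x ^ (p - 1) = 0 := by
        obtain ⟨d, hd⟩ := Nat.exists_eq_add_of_le hkp1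
        rw [hd, pow_add, hk1, zero_mul]
      rw [this, Submodule.map_zero]
    · intro X hX hXle
      rw [hfixeq] at hXle ⊢
      exact hW'min X hX hXle
  · left
    have hkeq : k = p - 1 := by omega
    rw [hfixeq, ← hWmap, nmOn, ← hxdef, hkeq]
    exact Submodule.map_mono hWU'

end Cfsg.Agent.Lib.Helper74.GT
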