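import Cfsg.Agent.Lib.Helper74.GT.Simple

/-!
# GT (helper74): transfer lemmas for sub- and quotient representations.
-/

namespace Cfsg.Agent.Lib.Helper74.GT

variable {F : Type*} [Field F] {M : Type*} [AddCommGroup M] [Module F M]
variable {G : Type*} [Group G]

/-- `U^P` is `H`-invariant when `U` is. -/
theorem fixOn_inv (ρ : Representation F G M) {y h : G} {j : ℕ} (hj : h⁻¹ * y * h = y ^ j)
    {U : Submodule F M} (hU : ∀ v ∈ U, ρ h v ∈ U) :
    ∀ v ∈ fixOn (ρ y) U, ρ h v ∈ fixOn (ρ y) U := by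
  intro v hv
  obtain ⟨hvU, hvy⟩ := mem_fixOn.1 hv
  refine mem_fixOn.2 ⟨hU v hvU, ?_⟩
  have e1 : y * h = h * y ^ j := by rw [← hj]; group
  rw [← Module.End.mul_apply, ← map_mul, e1, map_mul, map_pow, Module.End.mul_apply]
  congr 1
  have : ∀ i : ℕ, ((ρ y) ^ i) v = v := by
    intro i
    induction i with
    | zero => simp
    | succ i ih => rw [pow_succ', Module.End.mul_apply, ih, hvy]
  exact this j

/-- `N_P U` is `H`-invariant when `U` is `y`- and `h`-invariant. -/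
theorem nmOn_inv (p : ℕ) (ρ : Representation F G M) {y h : G} {j : ℕ} (hj : h * y * h⁻¹ = y ^ j)
    {U : Submodule F M} (hUy : ∀ v ∈ U, ρ y v ∈ U) (hU : ∀ v ∈ U, ρ h v ∈ U) :
    ∀ v ∈ nmOn p (ρ y) U, ρ h v ∈ nmOn p (ρ y) U := by
  intro v hv
  obtain ⟨u, hu, rfl⟩ := mem_nmOn.1 hv
  obtain ⟨a, _, h2, h3, _⟩ := exists_semicomm_pow ρ hj
  have := congrArg (fun f => f u) (h2 (p - 1))
  simp only [Module.End.mul_apply] at this
  rw [this]
  exact mem_nmOn.2 ⟨_, pow_mem_of_mem (h3 U hUy) _ _ (hU u hu), rfl⟩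

/-- the quotient representation -/
def quotRep (ρ : Representation F G M) (U : Submodule F M) (hU : ∀ g, ∀ v ∈ U, ρ g v ∈ U) :
    Representation F G (M ⧸ U) where
  toFun g := Submodule.mapQ U U (ρ g) (fun v hv => hU g v hv)
  map_one' := by
    apply LinearMap.ext; intro v
    induction v using Submodule.Quotient.induction_on with
    | H v => simp
  map_mul' a b := by
    apply LinearMap.ext; intro v
    induction v using Submodule.Quotient.induction_on with
    | H v => simp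

@[simp] theorem quotRep_mk (ρ : Representation F G M) (U : Submodule F M)
    (hU : ∀ g, ∀ v ∈ U, ρ g v ∈ U) (g : G) (v : M) :
    quotRep ρ U hU g (Submodule.Quotient.mk v) = Submodule.Quotient.mk (ρ g v) := rfl

theorem pow_sub_one_comm {M' : Type*} [AddCommGroup M'] [Module F M'] (q : M →ₗ[F] M')
    (Y : Module.End F M) (Y' : Module.End F M') (hc : ∀ v, q (Y v) = Y' (q v)) (n : ℕ) (v : M) :
    q (((Y - 1) ^ n) v) = ((Y' - 1) ^ n) (q v) := by
  have hx : ∀ v, q ((Y - 1) v) = (Y' - 1) (q v) := fun v => by simp [hc]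
  induction n generalizing v with
  | zero => simp
  | succ n ih => rw [pow_succ', pow_succ', Module.End.mul_apply, Module.End.mul_apply, hx, ih]

/-- a surjective equivariant map sends `N_P M` onto `N_P M'`. -/
theorem nmOn_top_map_of_surjective {M' : Type*} [AddCommGroup M'] [Module F M'] (p : ℕ)
    (q : M →ₗ[F] M') (hq : Function.Surjective q)
    (Y : Module.End F M) (Y' : Module.End F M') (hc : ∀ v, q (Y v) = Y' (q v)) :
    nmOn p Y' ⊤ = (nmOn p Y ⊤).map q := by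
  ext v
  simp only [nmOn, Submodule.mem_map, Submodule.mem_top, true_and]
  constructor
  · rintro ⟨a, rfl⟩
    obtain ⟨b, rfl⟩ := hq a
    exact ⟨_, ⟨b, rfl⟩, pow_sub_one_comm q Y Y' hc _ b⟩
  · rintro ⟨_, ⟨b, rfl⟩, rfl⟩
    exact ⟨q b, (pow_sub_one_comm q Y Y' hc _ b).symm⟩

theorem isSimpleRep_restrict (ρ : Representation F G M) (S₀ : Submodule F M) (hne : S₀ ≠ ⊥)
    (hS₀ : ∀ g, ∀ v ∈ S₀, ρ g v ∈ S₀)
    (hmin : ∀ X : Submodule F M, (∀ g, ∀ v ∈ X, ρ g v ∈ X) → X ≤ S₀ → X = ⊥ ∨ X = S₀) :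
    IsSimpleRep (restrictRep ρ S₀ hS₀) := by
  refine ⟨Submodule.nontrivial_iff_ne_bot.2 hne, fun X hX => ?_⟩
  have hinj : Function.Injective S₀.subtype := S₀.injective_subtype
  rcases hmin (X.map S₀.subtype) (by
      rintro g _ ⟨a, ha, rfl⟩
      exact ⟨restrictRep ρ S₀ hS₀ g a, hX g a ha, rfl⟩)
    (by rintro _ ⟨a, _, rfl⟩; exact a.2) with h | h
  · left
    exact Submodule.map_injective_of_injective hinj (by rw [h, Submodule.map_bot])
  · right
    exact Submodule.map_injective_of_injective hinj (by rw [h, Submodule.map_subtype_top])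

theorem fixOn_restrict (ρ : Representation F G M) (S₀ : Submodule F M)
    (hS₀ : ∀ g, ∀ v ∈ S₀, ρ g v ∈ S₀) (y : G) :
    (fixOn (restrictRep ρ S₀ hS₀ y) ⊤).map S₀.subtype = fixOn (ρ y) S₀ := by
  rw [← fixOn_map S₀.subtype S₀.injective_subtype (restrictRep ρ S₀ hS₀ y) (ρ y) (fun _ => rfl),
    Submodule.map_subtype_top]

theorem nmOn_restrict (p : ℕ) (ρ : Representation F G M) (S₀ : Submodule F M)
    (hS₀ : ∀ g, ∀ v ∈ S₀, ρ g v ∈ S₀) (y : G) :
    (nmOn p (restrictRep ρ S₀ hS₀ y) ⊤).map S₀.subtype = nmOn p (ρ y) S₀ := by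
  rw [← nmOn_map p S₀.subtype (restrictRep ρ S₀ hS₀ y) (ρ y) (fun _ => rfl),
    Submodule.map_subtype_top]

theorem tzero_restrict_iff (p : ℕ) (ρ : Representation F G M) (S₀ : Submodule F M)
    (hS₀ : ∀ g, ∀ v ∈ S₀, ρ g v ∈ S₀) (y : G) :
    TZero p (restrictRep ρ S₀ hS₀ y) ↔ fixOn (ρ y) S₀ ≤ nmOn p (ρ y) S₀ := by
  rw [← fixOn_restrict, ← nmOn_restrict, TZero]
  exact (Submodule.map_le_map_iff_of_injective S₀.injective_subtype _ _).symm

theorem tsimple_restrict (p : ℕ) (ρ : Representation F G M) (S₀ : Submodule F M)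
    (hS₀ : ∀ g, ∀ v ∈ S₀, ρ g v ∈ S₀) (y : G) (H : Subgroup G)
    (hT : TSimple p (restrictRep ρ S₀ hS₀) y H) :
    ∀ X : Submodule F M, (∀ h ∈ H, ∀ v ∈ X, ρ h v ∈ X) → nmOn p (ρ y) S₀ ≤ X →
      X ≤ fixOn (ρ y) S₀ → X = nmOn p (ρ y) S₀ ∨ X = fixOn (ρ y) S₀ := by
  intro X hX hlo hhi
  have hinj : Function.Injective S₀.subtype := S₀.injective_subtype
  have hXS : X ≤ LinearMap.range S₀.subtype := by
    rw [Submodule.range_subtype]; exact hhi.trans inf_le_left
  have hXeq : (X.comap S₀.subtype).map S₀.subtype = X := Submodule.map_comap_eq_of_le hXS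
  rcases hT.2 (X.comap S₀.subtype) (fun h hh v hv => hX h hh _ hv)
    (by
      rw [← Submodule.map_le_map_iff_of_injective hinj, nmOn_restrict, hXeq]; exact hlo)
    (by
      rw [← Submodule.map_le_map_iff_of_injective hinj, fixOn_restrict, hXeq]; exact hhi)
    with h | h
  · left; rw [← hXeq, h, nmOn_restrict]
  · right; rw [← hXeq, h, fixOn_restrict]

end Cfsg.Agent.Lib.Helper74.GT
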